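/-
The root elements of a Chevalley datum as polynomials in t with integer matrix coefficients,
and sparse column computations with them.
-/
import Cfsg.Prelude.Def_ChevStructure

set_option autoImplicit false

namespace Cfsg.Agent.Chevalley

open Cfsg.Lie Cfsg.Lie.ChevalleyDatum
open scoped Matrix

variable (D : ChevalleyDatum)

/-- coefficient `c_i(r)` of the coroot of `r` -/
abbrev cor (r i : ℕ) : ℤ := (D.coroot.getD r #[]).getD i 0

/-- entries of the coefficient of `t^k` in `x_r(t)`, with natural-number coordinates -/
def entII (k : ℕ) (i j : ℕ) : ℤ := if k = 0 ∧ i = j then 1 else 0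

def entUI (r k : ℕ) (u j : ℕ) : ℤ := if k = 1 ∧ u = r then -(D.cartan j r) else 0

def entIS (r k : ℕ) (i s : ℕ) : ℤ := if k = 1 ∧ s = D.neg r then cor D r i else 0

def entUS (r k : ℕ) (u s : ℕ) : ℤ :=
  if k = 0 then (if u = s then 1 else 0)
  else (if k = 2 ∧ s = D.neg r ∧ u = r then -1 else 0) +
    (if D.chainRoot r s k = some u then D.chainM r s k else 0)

/-- the coefficient matrix of `t^k` in `x_r(t)` -/
def aMat (r k : ℕ) : Matrix D.Idx D.Idx ℤ := Matrix.of fun row col =>
  Sum.elim
    (fun i : Fin D.rank => Sum.elim (fun j : Fin D.rank => entII k i j)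
      (fun s : Fin D.nroots => entIS D r k i s) col)
    (fun u : Fin D.nroots => Sum.elim (fun j : Fin D.rank => entUI D r k u j)
      (fun s : Fin D.nroots => entUS D r k u s) col)
    row

@[simp] theorem aMat_ll (r k : ℕ) (i j : Fin D.rank) :
    aMat D r k (.inl i) (.inl j) = entII k i j := rfl
@[simp] theorem aMat_rl (r k : ℕ) (u : Fin D.nroots) (j : Fin D.rank) :
    aMat D r k (.inr u) (.inl j) = entUI D r k u j := rfl
@[simp] theorem aMat_lr (r k : ℕ) (i : Fin D.rank) (s : Fin D.nroots) :
    aMat D r k (.inl i) (.inr s) = entIS D r k i s := rfl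
@[simp] theorem aMat_rr (r k : ℕ) (u s : Fin D.nroots) :
    aMat D r k (.inr u) (.inr s) = entUS D r k u s := rfl

/-- the root element over an arbitrary commutative ring -/
def xR (R : Type*) [CommRing R] (r : ℕ) (t : R) : Matrix D.Idx D.Idx R :=
  Matrix.of fun row col => ∑ k ∈ Finset.range 4, (aMat D r k row col : R) * t ^ k

def wordR (R : Type*) [CommRing R] (w : List (ℕ × R)) : Matrix D.Idx D.Idx R :=
  (w.map fun p => xR D R p.1 p.2).prod

theorem xR_eq_sum (R : Type*) [CommRing R] (r : ℕ) (t : R) :
    xR D R r t = ∑ k ∈ Finset.range 4, t ^ k • (aMat D r k).map (Int.cast : ℤ → R) := by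
  ext row col
  simp [xR, Matrix.sum_apply, mul_comm]

theorem xR_map {R S : Type*} [CommRing R] [CommRing S] (f : R →+* S) (r : ℕ) (t : R) :
    (xR D R r t).map f = xR D S r (f t) := by
  ext row col
  simp [xR]

theorem wordR_map {R S : Type*} [CommRing R] [CommRing S] (f : R →+* S) (w : List (ℕ × R)) :
    (wordR D R w).map f = wordR D S (w.map fun p => (p.1, f p.2)) := by
  induction w with
  | nil => simp [wordR]
  | cons p w ih =>
    simp only [wordR, List.map_cons, List.prod_cons] at ih ⊢
    rw [Matrix.map_mul, xR_map, ih]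

theorem wordR_nil (R : Type*) [CommRing R] : wordR D R [] = 1 := rfl

theorem wordR_cons (R : Type*) [CommRing R] (p : ℕ × R) (w : List (ℕ × R)) :
    wordR D R (p :: w) = xR D R p.1 p.2 * wordR D R w := rfl

theorem wordR_append (R : Type*) [CommRing R] (v w : List (ℕ × R)) :
    wordR D R (v ++ w) = wordR D R v * wordR D R w := by
  simp [wordR]

/-- what the chain tables must satisfy for `x_r(t)` to be a polynomial of degree at most 3 -/
structure RowOK (r : ℕ) : Prop where
  nodup : ((D.chain.getD r #[]).toList.map Prod.fst).Nodup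
  len : ∀ s, (D.chainEntry r s).length ≤ 3
  key : ∀ e ∈ (D.chain.getD r #[]).toList, e.1 ≠ r ∧ e.1 ≠ D.neg r

variable {D}

theorem filter_fst_eq {α : Type*} (L : List (ℕ × α)) (h : (L.map Prod.fst).Nodup) (s : ℕ) :
    L.filter (fun e => decide (e.1 = s)) = (L.find? (fun e => decide (e.1 = s))).toList := by
  induction L with
  | nil => rfl
  | cons a L ih =>
    simp only [List.map_cons, List.nodup_cons] at h
    by_cases ha : a.1 = s
    · have : L.filter (fun e => decide (e.1 = s)) = [] := by
        rw [List.filter_eq_nil_iff]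
        intro e he
        simp only [decide_eq_true_eq]
        intro hes
        exact h.1 (List.mem_map.2 ⟨e, he, hes.trans ha.symm⟩)
      simp [ha, this]
    · simp [ha, ih h.2]

theorem chainEntry_eq_nil {r s : ℕ} (h : ∀ e ∈ (D.chain.getD r #[]).toList, e.1 ≠ s) :
    D.chainEntry r s = [] := by
  unfold chainEntry
  rw [List.find?_eq_none.2 (by simpa using h)]

theorem RowOK.chain_self {r : ℕ} (h : RowOK D r) : D.chainEntry r r = [] :=
  chainEntry_eq_nil fun e he => (h.key e he).1

theorem RowOK.chain_neg {r : ℕ} (h : RowOK D r) : D.chainEntry r (D.neg r) = [] :=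
  chainEntry_eq_nil fun e he => (h.key e he).2

theorem RowOK.chainCoeff_sum {r : ℕ} (h : RowOK D r) {F : Type*} [CommRing F] (s u : ℕ) (t : F) :
    ((D.chainCoeff r s u).map fun km => ((km.2 : ℤ) : F) * t ^ km.1).sum =
      ∑ k ∈ Finset.range 3,
        ((if D.chainRoot r s (k + 1) = some u then D.chainM r s (k + 1) else 0 : ℤ) : F) *
          t ^ (k + 1) := by
  have hlen := h.len s
  unfold chainCoeff chainRoot chainM
  rw [filter_fst_eq _ h.nodup s]
  unfold chainEntry at hlen ⊢
  cases hf : (D.chain.getD r #[]).toList.find? (fun e => decide (e.1 = s)) with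
  | none => simp
  | some e =>
    simp only [hf] at hlen
    simp only [Option.toList_some, List.flatMap_cons, List.flatMap_nil, List.append_nil]
    obtain ⟨s', a⟩ := e
    simp only at hlen ⊢
    match hl : a.toList, hlen with
    | [], _ => simp
    | [p], _ => by_cases h1 : p.1 = u <;> simp [Finset.sum_range_succ, h1]
    | [p, q], _ =>
      by_cases h1 : p.1 = u <;> by_cases h2 : q.1 = u <;> simp [Finset.sum_range_succ, h1, h2]
    | [p, q, o], _ =>
      by_cases h1 : p.1 = u <;> by_cases h2 : q.1 = u <;> by_cases h3 : o.1 = u <;>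
        simp [Finset.sum_range_succ, h1, h2, h3, add_assoc]
    | _ :: _ :: _ :: _ :: _, hh => simp only [hl, List.length_cons] at hlen; omega

theorem RowOK.x_eq {r : ℕ} (h : RowOK D r) (hr : r < D.nroots) (hne : D.neg r ≠ r)
    {F : Type*} [Field F] (t : F) : D.x F r t = xR D F r t := by
  unfold ChevalleyDatum.x
  rw [dif_pos hr]
  ext row col
  have hne' : r ≠ D.neg r := hne.symm
  match row, col with
  | .inl i, .inl j => simp [xMat, xR, entII, Finset.sum_range_succ, Fin.ext_iff]
  | .inr u, .inl j =>
    simp [xMat, xR, entUI, Finset.sum_range_succ, Fin.ext_iff, cartan, apply_ite (Int.cast : ℤ → F)]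
  | .inl i, .inr s =>
    by_cases hs : s.val = r
    · simp [xMat, xR, entIS, Finset.sum_range_succ, Fin.ext_iff, hs, hne']
    · by_cases hs' : s.val = D.neg r
      · simp [xMat, xR, entIS, Finset.sum_range_succ, Fin.ext_iff, hs', hne]
        simp [neg]
      · have hs'' : ¬ s.val = D.negIdx.getD r 0 := hs'
        simp [xMat, xR, entIS, Finset.sum_range_succ, Fin.ext_iff, hs, hs']
        simp [neg] at hs''
        simp [hs'']
  | .inr u, .inr s =>
    by_cases hs : s.val = r
    · simp [xMat, xR, entUS, chainRoot, Finset.sum_range_succ, Fin.ext_iff, hs, hne', h.chain_self]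
    · by_cases hs' : s.val = D.neg r
      · have hs'' : s.val = D.negIdx.getD r 0 := hs'
        simp only [xMat, xR, Matrix.of_apply, Fin.ext_iff, hs, if_false, hs'', if_true, aMat_rr]
        have hc : ∀ k, D.chainRoot r (D.neg r) k = none := fun k => by
          simp [chainRoot, h.chain_neg]
        have e : D.negIdx.getD r 0 = D.neg r := rfl
        by_cases h1 : u.val = r
        · simp [entUS, hc, Finset.sum_range_succ, h1, e, hne, hne', -Array.getD_eq_getD_getElem?]
        · simp [entUS, hc, Finset.sum_range_succ, h1, e, hne, -Array.getD_eq_getD_getElem?]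
      · have hs'' : ¬ s.val = D.negIdx.getD r 0 := hs'
        simp only [xMat, xR, Matrix.of_apply, Fin.ext_iff, hs, if_false, hs'', h.chainCoeff_sum,
          aMat_rr]
        rw [Finset.sum_range_succ' (fun k => ((entUS D r k u s : ℤ) : F) * t ^ k)]
        rw [add_comm (ite _ _ _)]
        congr 1
        · refine Finset.sum_congr rfl fun k _ => ?_
          simp [entUS, hs']
        · simp [entUS, apply_ite (Int.cast : ℤ → F)]

/-! ### sparse vectors -/

section Sparse

/-- a sparse vector: coordinate below `rank` is a coroot, `rank + s` is the root vector `e_s` -/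
abbrev SVec := List (ℕ × ℤ)

def idxNat : D.Idx → ℕ
  | .inl i => i.val
  | .inr s => D.rank + s.val

theorem idxNat_inj : Function.Injective (idxNat (D := D)) := by
  rintro (i | s) (j | t) h <;> simp [idxNat, Fin.ext_iff] at h ⊢ <;> omega

theorem idxNat_lt (x : D.Idx) : idxNat x < D.rank + D.nroots := by
  rcases x with i | s <;> simp [idxNat] <;> omega

theorem exists_idxNat {j : ℕ} (h : j < D.rank + D.nroots) : ∃ x : D.Idx, idxNat x = j := by
  by_cases hj : j < D.rank
  · exact ⟨.inl ⟨j, hj⟩, rfl⟩
  · refine ⟨.inr ⟨j - D.rank, by omega⟩, ?_⟩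
    simp [idxNat]
    omega

def get (v : SVec) (i : ℕ) : ℤ := (v.map fun p => if p.1 = i then p.2 else 0).sum

@[simp] theorem get_nil (i : ℕ) : get [] i = 0 := rfl
theorem get_cons (p : ℕ × ℤ) (v : SVec) (i : ℕ) :
    get (p :: v) i = (if p.1 = i then p.2 else 0) + get v i := by simp [get]
theorem get_append (v w : SVec) (i : ℕ) : get (v ++ w) i = get v i + get w i := by
  simp [get]
theorem get_scale (v : SVec) (c : ℤ) (i : ℕ) :
    get (v.map fun p => (p.1, c * p.2)) i = c * get v i := by
  induction v with
  | nil => simp
  | cons p v ih => simp only [List.map_cons, get_cons, ih, mul_add, mul_ite, mul_zero]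

def ins (p : ℕ × ℤ) : SVec → SVec
  | [] => if p.2 = 0 then [] else [p]
  | q :: v => if p.1 < q.1 then (if p.2 = 0 then q :: v else p :: q :: v)
    else if p.1 = q.1 then (if p.2 + q.2 = 0 then v else (p.1, p.2 + q.2) :: v)
    else q :: ins p v

theorem get_ins (p : ℕ × ℤ) (v : SVec) (i : ℕ) :
    get (ins p v) i = (if p.1 = i then p.2 else 0) + get v i := by
  induction v with
  | nil =>
    unfold ins
    by_cases h : p.2 = 0 <;> simp [h, get_cons]
  | cons q v ih =>
    unfold ins
    by_cases h1 : p.1 < q.1
    · by_cases h : p.2 = 0 <;> simp [h1, h, get_cons]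
    · by_cases h2 : p.1 = q.1
      · by_cases h : p.2 + q.2 = 0 <;> simp [h1, h2, h, get_cons] <;> split <;> omega
      · simp [h1, h2, get_cons, ih]
        ring

def nrm (v : SVec) : SVec := v.foldr ins []

theorem get_nrm (v : SVec) (i : ℕ) : get (nrm v) i = get v i := by
  induction v with
  | nil => rfl
  | cons p v ih =>
    show get (ins p (nrm v)) i = _
    rw [get_ins, ih, get_cons]

/-- sparse equality test -/
def sameVec (v w : SVec) : Bool := decide (nrm v = nrm w)

theorem get_eq_of_sameVec {v w : SVec} (h : sameVec v w = true) (i : ℕ) : get v i = get w i := by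
  unfold sameVec at h
  rw [← get_nrm v, ← get_nrm w, of_decide_eq_true h]

/-- apply an integer matrix, given by sparse columns, to a sparse vector -/
def applyCols (cols : ℕ → SVec) (v : SVec) : SVec :=
  v.flatMap fun p => (cols p.1).map fun q => (q.1, p.2 * q.2)

theorem get_applyCols (cols : ℕ → SVec) (v : SVec) (i : ℕ) :
    get (applyCols cols v) i = (v.map fun p => p.2 * get (cols p.1) i).sum := by
  induction v with
  | nil => rfl
  | cons p v ih =>
    unfold applyCols at ih ⊢
    simp only [List.flatMap_cons, get_append, get_scale, List.map_cons, List.sum_cons, ih]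

def Bounded (D : ChevalleyDatum) (v : SVec) : Prop := ∀ p ∈ v, p.1 < D.rank + D.nroots

theorem sum_get (v : SVec) (hv : Bounded D v) (f : ℕ → ℤ) :
    (v.map fun p => p.2 * f p.1).sum = ∑ x : D.Idx, get v (idxNat x) * f (idxNat x) := by
  induction v with
  | nil => simp
  | cons p v ih =>
    obtain ⟨x, hx⟩ := exists_idxNat (hv p (by simp))
    rw [List.map_cons, List.sum_cons, ih (fun q hq => hv q (by simp [hq]))]
    simp only [get_cons, add_mul, Finset.sum_add_distrib]
    congr 1
    rw [Finset.sum_eq_single x]
    · rw [if_pos hx.symm, hx]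
    · intro y _ hy
      have : p.1 ≠ idxNat y := fun e => hy (idxNat_inj (e.symm.trans hx.symm))
      simp [this]
    · simp

theorem mul_of_cols (M N : Matrix D.Idx D.Idx ℤ) (cols : ℕ → SVec) (v : SVec) (c : D.Idx)
    (hM : ∀ row col, M row col = get (cols (idxNat col)) (idxNat row))
    (hv : Bounded D v) (hN : ∀ row, N row c = get v (idxNat row)) (row : D.Idx) :
    (M * N) row c = get (applyCols cols v) (idxNat row) := by
  rw [get_applyCols, sum_get v hv (fun j => get (cols j) (idxNat row)), Matrix.mul_apply]
  exact Finset.sum_congr rfl fun x _ => by rw [hN, hM, mul_comm]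

variable (D)

/-- sparse columns of `aMat r k` -/
def aCol (r k : ℕ) (j : ℕ) : SVec :=
  if k = 0 then [(j, 1)]
  else if j < D.rank then
    (if k = 1 then [(D.rank + r, -(D.cartan j r))] else [])
  else
    (if j - D.rank = D.neg r then
      (if k = 1 then (List.range D.rank).map fun i => (i, cor D r i)
       else if k = 2 then [(D.rank + r, -1)] else [])
     else []) ++
    (match (D.chainEntry r (j - D.rank))[k - 1]? with
     | some p => [(D.rank + p.1, p.2)]
     | none => [])

/-- sparse columns of `x_r(t)` over the integers -/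
def xCol (r : ℕ) (t : ℤ) (j : ℕ) : SVec :=
  (List.range 4).flatMap fun k => (aCol D r k j).map fun q => (q.1, t ^ k * q.2)

/-- image of the basis vector `j` under a word -/
def wordCol : List (ℕ × ℤ) → ℕ → SVec
  | [], j => [(j, 1)]
  | p :: w, j => nrm (applyCols (xCol D p.1 p.2) (wordCol w j))

variable {D}

theorem get_range_map (n : ℕ) (f : ℕ → ℤ) (i : ℕ) :
    get ((List.range n).map fun j => (j, f j)) i = if i < n then f i else 0 := by
  induction n with
  | zero => simp
  | succ n ih =>
    rw [List.range_succ, List.map_append, get_append, ih]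
    by_cases h : i = n
    · subst h
      simp [get_cons]
    · simp [get_cons, Ne.symm h]
      split <;> split <;> first | rfl | omega

theorem aMat_eq_get (r k : ℕ) (row col : D.Idx) :
    aMat D r k row col = get (aCol D r k (idxNat col)) (idxNat row) := by
  by_cases hk : k = 0
  · subst hk
    match row, col with
    | .inl i, .inl j =>
      simp [aCol, idxNat, get_cons, entII, eq_comm]
    | .inr u, .inl j =>
      have : ¬ (j : ℕ) = D.rank + u := by omega
      simp [aCol, idxNat, get_cons, entUI, this]
    | .inl i, .inr s =>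
      have : ¬ D.rank + (s : ℕ) = i := by omega
      simp [aCol, idxNat, get_cons, entIS, this]
    | .inr u, .inr s => simp [aCol, idxNat, get_cons, entUS, eq_comm]
  · match row, col with
    | .inl i, .inl j =>
      have : ¬ D.rank + r = (i : ℕ) := by omega
      by_cases h1 : k = 1 <;> simp [aCol, idxNat, hk, h1, get_cons, entII, this]
    | .inr u, .inl j =>
      by_cases h1 : k = 1 <;> simp [aCol, idxNat, hk, h1, get_cons, entUI, eq_comm]
    | .inl i, .inr s =>
      have hs : ¬ D.rank + (s : ℕ) < D.rank := by omega
      have hp : ∀ p : ℕ × ℤ, ¬ D.rank + p.1 = (i : ℕ) := fun p => by omega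
      simp only [aMat_lr, aCol, idxNat, hk, if_false, hs, Nat.add_sub_cancel_left, get_append]
      have : get (match (D.chainEntry r s)[k - 1]? with
          | some p => [(D.rank + p.1, p.2)] | none => []) (i : ℕ) = 0 := by
        cases (D.chainEntry r s)[k - 1]? <;> simp [get_cons, hp]
      rw [this, add_zero]
      by_cases hn : (s : ℕ) = D.neg r
      · by_cases h1 : k = 1
        · subst h1
          simp [hn, entIS, get_range_map]
        · by_cases h2 : k = 2 <;> simp [hn, entIS, h1, h2, get_cons] <;> omega
      · simp [hn, entIS]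
    | .inr u, .inr s =>
      have hs : ¬ D.rank + (s : ℕ) < D.rank := by omega
      simp only [aMat_rr, aCol, idxNat, hk, if_false, hs, Nat.add_sub_cancel_left, get_append,
        entUS]
      congr 1
      · by_cases hn : (s : ℕ) = D.neg r
        · by_cases h1 : k = 1
          · subst h1
            simp [hn, get_range_map]
          · by_cases h2 : k = 2 <;> simp [hn, h1, h2, get_cons, eq_comm]
        · simp [hn]
      · unfold chainRoot chainM
        cases h : (D.chainEntry r s)[k - 1]? with
        | none => simp
        | some p =>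
          by_cases hp : p.1 = (u : ℕ) <;> simp [get_cons, hp]

theorem xR_eq_get (r : ℕ) (t : ℤ) (row col : D.Idx) :
    xR D ℤ r t row col = get (xCol D r t (idxNat col)) (idxNat row) := by
  simp only [xR, Matrix.of_apply, xCol, List.range_succ, List.range_zero, List.nil_append,
    List.flatMap_append, List.flatMap_cons, List.flatMap_nil, List.append_nil, get_append,
    get_scale, Finset.sum_range_succ, Finset.sum_range_zero, aMat_eq_get, Int.cast_eq]
  ring

theorem bounded_ins {p : ℕ × ℤ} {v : SVec} (hp : p.1 < D.rank + D.nroots) (hv : Bounded D v) :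
    Bounded D (ins p v) := by
  induction v with
  | nil => unfold ins; split <;> intro q hq <;> simp_all
  | cons q v ih =>
    have hv' : Bounded D v := fun o ho => hv o (by simp [ho])
    have hq : q.1 < D.rank + D.nroots := hv q (by simp)
    intro o ho
    unfold ins at ho
    split at ho
    · split at ho
      · exact hv o ho
      · rcases List.mem_cons.1 ho with h | h
        · exact h ▸ hp
        · exact hv o h
    · split at ho
      · split at ho
        · exact hv' o ho
        · simp at ho
          rcases ho with h | h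
          · subst h; exact hp
          · exact hv' o h
      · simp at ho
        rcases ho with h | h
        · subst h; exact hq
        · exact ih hv' o h

theorem bounded_nrm {v : SVec} (hv : Bounded D v) : Bounded D (nrm v) := by
  induction v with
  | nil => exact fun _ h => absurd h (by simp [nrm])
  | cons p v ih => exact bounded_ins (hv p (by simp)) (ih fun q hq => hv q (by simp [hq]))

/-- targets of the chain table are roots -/
def TargetsOK (D : ChevalleyDatum) : Prop :=
  ∀ r s, ∀ p ∈ D.chainEntry r s, p.1 < D.nroots

theorem bounded_xCol (hT : TargetsOK D) {r : ℕ} (hr : r < D.nroots) (t : ℤ) {j : ℕ}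
    (hj : j < D.rank + D.nroots) : Bounded D (xCol D r t j) := by
  intro p hp
  simp only [xCol, List.mem_flatMap, List.mem_map] at hp
  obtain ⟨k, -, q, hq, rfl⟩ := hp
  show q.1 < _
  unfold aCol at hq
  split at hq
  · simp at hq; subst hq; exact hj
  split at hq
  · split at hq <;> simp at hq
    subst hq; simp; omega
  rw [List.mem_append] at hq
  rcases hq with hq | hq
  · split at hq
    · split at hq
      · simp at hq
        obtain ⟨i, hi, rfl⟩ := hq
        simp; omega
      · split at hq <;> simp at hq
        subst hq; simp; omega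
    · simp at hq
  · cases hc : (D.chainEntry r (j - D.rank))[k - 1]? with
    | none => simp [hc] at hq
    | some e =>
      simp [hc] at hq
      subst hq
      have := hT r (j - D.rank) e (List.mem_of_getElem? hc)
      simp; omega

theorem bounded_wordCol (hT : TargetsOK D) :
    ∀ (w : List (ℕ × ℤ)), (∀ p ∈ w, p.1 < D.nroots) → ∀ {j : ℕ}, j < D.rank + D.nroots →
      Bounded D (wordCol D w j)
  | [], _, j, hj => by intro p hp; simp [wordCol] at hp; subst hp; exact hj
  | p :: w, hw, j, hj => by
    refine bounded_nrm ?_
    intro q hq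
    simp only [applyCols, List.mem_flatMap, List.mem_map] at hq
    obtain ⟨o, ho, o', ho', rfl⟩ := hq
    exact bounded_xCol hT (hw p (by simp)) p.2
      (bounded_wordCol hT w (fun q hq => hw q (by simp [hq])) hj o ho) o' ho'

theorem wordR_eq_get (hT : TargetsOK D) :
    ∀ (w : List (ℕ × ℤ)), (∀ p ∈ w, p.1 < D.nroots) → ∀ (row col : D.Idx),
      wordR D ℤ w row col = get (wordCol D w (idxNat col)) (idxNat row)
  | [], _, row, col => by
    simp [wordR_nil, wordCol, get_cons, Matrix.one_apply, idxNat_inj.eq_iff, eq_comm]
  | p :: w, hw, row, col => by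
    have hw' : ∀ q ∈ w, q.1 < D.nroots := fun q hq => hw q (by simp [hq])
    rw [wordR_cons, wordCol, get_nrm]
    exact mul_of_cols _ _ _ _ col (xR_eq_get p.1 p.2)
      (bounded_wordCol hT w hw' (idxNat_lt col)) (fun r => wordR_eq_get hT w hw' r col) row

/-- Bool test for equality of the matrices of two integer words. -/
def sameWord (D : ChevalleyDatum) (v w : List (ℕ × ℤ)) : Bool :=
  (List.range (D.rank + D.nroots)).all fun j => sameVec (wordCol D v j) (wordCol D w j)

theorem wordR_eq_of_sameWord (hT : TargetsOK D) {v w : List (ℕ × ℤ)}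
    (hv : ∀ p ∈ v, p.1 < D.nroots) (hw : ∀ p ∈ w, p.1 < D.nroots)
    (h : sameWord D v w = true) : wordR D ℤ v = wordR D ℤ w := by
  ext row col
  rw [wordR_eq_get hT v hv, wordR_eq_get hT w hw]
  refine get_eq_of_sameVec ?_ _
  exact (List.all_eq_true.1 h) _ (List.mem_range.2 (idxNat_lt col))

end Sparse

end Cfsg.Agent.Chevalley
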