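/-
What has to be known about the tables of a Chevalley datum: the certificate from which the
structure of the group is developed.
-/
import Cfsg.Agent.Chevalley.Model

set_option autoImplicit false

namespace Cfsg.Agent.Chevalley

open Cfsg.Lie Cfsg.Lie.ChevalleyDatum

/-- transform an entry of the chain table at `(r, s)` by a signed permutation of the roots -/
def trEntry (w : ℕ → ℕ) (sg : ℕ → ℤ) (r s : ℕ) (L : List (ℕ × ℤ)) : List (ℕ × ℤ) :=
  L.zipIdx.map fun q => (w q.1.1, sg q.1.1 * sg r ^ (q.2 + 1) * sg s * q.1.2)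

/-- Horner value of a list of digits in base 64 -/
def horner (L : List ℤ) : ℤ := L.foldl (fun a b => a * 64 + b) 0

/-- the signed monomial matrix of a fundamental reflection, as sparse columns -/
def nCol (D : ChevalleyDatum) (w : ℕ → ℕ) (sg : ℕ → ℤ) (i j : ℕ) : SVec :=
  if j < D.rank then [(j, 1), (i, -(D.cartan j (D.simple i)))]
  else [(D.rank + w (j - D.rank), sg (j - D.rank))]

/-- the word `x_p(1) x_{-p}(-1) x_p(1)` over the integers -/
def nWordZ (D : ChevalleyDatum) (p : ℕ) : List (ℕ × ℤ) := [(p, 1), (D.neg p, -1), (p, 1)]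

/-- the two sides of the commutator formula at `t = u = 1` -/
def commLhsZ (r s : ℕ) : List (ℕ × ℤ) := [(s, 1), (r, 1)]

def commRhsZ (D : ChevalleyDatum) (r s : ℕ) : List (ℕ × ℤ) :=
  (r, 1) :: (s, 1) ::
    (D.commTerms r s).map fun c => (c.1, c.2.1 * (-1) ^ c.2.2.1 * 1 ^ c.2.2.2)

/-- product of two coefficient matrices, as a sparse column -/
def aCol2 (D : ChevalleyDatum) (r a b j : ℕ) : SVec := applyCols (aCol D r a) (aCol D r b j)

structure Cert (D : ChevalleyDatum) where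
  /-- coefficient of the fundamental root `p_i` in the root -/
  cf : ℕ → ℕ → ℤ
  /-- `code r` encodes the coefficient vector, compatibly with the lexicographic order -/
  code : ℕ → ℤ
  /-- fundamental reflection on roots -/
  w : ℕ → ℕ → ℕ
  /-- sign of `n_i` on the root vectors -/
  sg : ℕ → ℕ → ℤ
  two_half : 2 * (D.nroots / 2) = D.nroots
  rank_pos : 2 ≤ D.rank
  keys_nodup : ∀ r < D.nroots, ((D.chain.getD r #[]).toList.map Prod.fst).Nodup
  chain_size : ∀ r, D.nroots ≤ r → D.chain.getD r #[] = #[]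
  entry_lt : ∀ r, ∀ e ∈ (D.chain.getD r #[]).toList,
    e.1 < D.nroots ∧ e.1 ≠ r ∧ e.1 ≠ D.neg r ∧ e.2.toList.length ≤ 3 ∧
      ∀ p ∈ e.2.toList, p.1 < D.nroots
  entry_cf : ∀ r < D.nroots, ∀ s k u, D.chainRoot r s (k + 1) = some u → ∀ i < D.rank,
    cf u i = (k + 1) * cf r i + cf s i
  code_eq : ∀ r < D.nroots, code r = horner ((List.range D.rank).map (cf r))
  code_lt : ∀ r, r + 1 < D.nroots → code r < code (r + 1)
  code_pos : ∀ r < D.nroots, (0 < code r ↔ D.nroots / 2 ≤ r) ∧ code r ≠ 0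
  cf_bound : ∀ r < D.nroots, ∀ i < D.rank, (cf r i).natAbs ≤ 7
  neg_eq : ∀ r < D.nroots, D.neg r = D.nroots - 1 - r
  cf_neg : ∀ r < D.nroots, ∀ i < D.rank, cf (D.neg r) i = -cf r i
  pos_iff : ∀ r < D.nroots, (D.IsPosRoot r ↔ D.nroots / 2 ≤ r) ∧ (D.IsNegRoot r ↔ r < D.nroots / 2)
  cor_size : ∀ r < D.nroots, ((D.coroot.getD r #[]).toList) = (List.range D.rank).map (cor D r)
  simple_lt : ∀ i < D.rank, D.simple i < D.nroots ∧ D.nroots / 2 ≤ D.simple i
  cf_simple : ∀ i < D.rank, ∀ j < D.rank, cf (D.simple i) j = if j = i then 1 else 0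
  cartan_self : ∀ i < D.rank, D.cartan i (D.simple i) = 2
  cor_simple : ∀ i < D.rank, ∀ j < D.rank, cor D (D.simple i) j = if j = i then 1 else 0
  cartan_lin : ∀ i < D.rank, ∀ s < D.nroots,
    D.cartan i s = ((List.range D.rank).map fun j => cf s j * D.cartan i (D.simple j)).sum
  cor_gcd : ∀ r < D.nroots, ((List.range D.rank).map (cor D r)).foldr (fun c g => Int.gcd c g) 0 = 1
  w_lt : ∀ i < D.rank, ∀ r < D.nroots, w i r < D.nroots ∧ w i (w i r) = r
  cf_nonneg : ∀ r < D.nroots, D.nroots / 2 ≤ r → ∀ i < D.rank, 0 ≤ cf r i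
  w_pos : ∀ i < D.rank, ∀ r < D.nroots, D.nroots / 2 ≤ r → r ≠ D.simple i → D.nroots / 2 ≤ w i r
  w_down : ∀ r < D.nroots, D.nroots / 2 ≤ r → ∃ i < D.rank,
    r = D.simple i ∨ (D.nroots / 2 ≤ w i r ∧ w i r < r)
  w_reflect : ∀ i < D.rank, ∀ r < D.nroots, D.reflectRoot i r = w i r
  cf_w : ∀ i < D.rank, ∀ r < D.nroots, ∀ j < D.rank,
    cf (w i r) j = cf r j - if j = i then D.cartan i r else 0
  sg_pm : ∀ i r, sg i r = 1 ∨ sg i r = -1
  sg_simple : ∀ i < D.rank, sg i (D.simple i) = -1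
  sg_rel : ∀ i < D.rank, ∀ r < D.nroots, sg i r * sg i (D.neg r) = 1 ∧
    sg i r * sg i (w i r) = (-1) ^ (D.cartan i r).natAbs
  cor_w : ∀ i < D.rank, ∀ r < D.nroots, ∀ j < D.rank, cor D (w i r) j =
    cor D r j - if j = i then ((List.range D.rank).map fun m => cor D r m * D.cartan m (D.simple i)).sum else 0
  chain_w : ∀ i < D.rank, ∀ r < D.nroots, ∀ s < D.nroots,
    D.chainEntry (w i r) (w i s) = trEntry (w i) (sg i) r s (D.chainEntry r s)
  n_word : ∀ i < D.rank, ∀ j < D.rank + D.nroots,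
    sameVec (wordCol D (nWordZ D (D.simple i)) j) (nCol D (w i) (sg i) i j) = true
  top_add : ∀ r < D.nroots, (∀ i < D.rank, ¬ r < w i r) → ∀ a < 4, ∀ b < 4,
    ∀ j < D.rank + D.nroots,
      sameVec (aCol2 D r a b j)
        (if a + b < 4 then (aCol D r (a + b) j).map (fun q => (q.1, (Nat.choose (a + b) a : ℤ) * q.2))
          else []) = true
  top_comm : ∀ r < D.nroots, (∀ i < D.rank, ¬ r < w i r) → ∀ s < D.nroots, s ≠ r → s ≠ D.neg r →
    (∀ i < D.rank, w i r = r → ¬ s < w i s) →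
      sameWord D (commLhsZ r s) (commRhsZ D r s) = true ∧
      ∃ i < D.rank, ∃ j < D.rank, cf r i * cf s j ≠ cf r j * cf s i
  third : ∀ r < D.nroots, ∀ s < D.nroots, (D.chainRoot r s 3).isSome →
    D.chainRoot r s 1 = D.chainRoot s r 1 ∧
    ∀ k, D.chainRoot r s 1 = some k →
      (3 : ℤ) ∣ D.chainM k r 2 ∧ (3 : ℤ) ∣ D.chainM k s 2

end Cfsg.Agent.Chevalley
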