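/-
Kernel-evaluable checks on the tables of a Chevalley datum, and their soundness.
-/
import Cfsg.Agent.Chevalley.Cert

set_option autoImplicit false

namespace Cfsg.Agent.Chevalley

open Cfsg.Lie Cfsg.Lie.ChevalleyDatum

/-- packed auxiliary tables of a datum -/
structure Tab where
  /-- byte `r * rank + i`: coefficient of `p_i` in root `r`, plus 128 -/
  cfP : ℕ
  /-- 64-bit slot `r`: the code of root `r`, plus `2 ^ 63` -/
  codeP : ℕ
  /-- for each `i`: byte `r` is the reflected root -/
  wP : List ℕ
  /-- for each `i`: bit `r` is set if the sign of `n_i` at `r` is `-1` -/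
  negP : List ℕ

namespace Tab

variable (D : ChevalleyDatum) (T : Tab)

def cf (r i : ℕ) : ℤ := (((T.cfP >>> (8 * (r * D.rank + i))) &&& 255 : ℕ) : ℤ) - 128
def code (r : ℕ) : ℤ :=
  (((T.codeP >>> (64 * r)) &&& 18446744073709551615 : ℕ) : ℤ) - 9223372036854775808
def w (i r : ℕ) : ℕ := (T.wP.getD i 0 >>> (8 * r)) &&& 255
def sg (i r : ℕ) : ℤ := if (T.negP.getD i 0 >>> r) &&& 1 == 1 then -1 else 1

/-! the checks -/

def incKeys : ℕ → List (ℕ × Array (ℕ × ℤ)) → Bool
  | _, [] => true
  | lb, e :: L => decide (lb ≤ e.1) && incKeys (e.1 + 1) L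

def chkRow (r : ℕ) (row : List (ℕ × Array (ℕ × ℤ))) : Bool :=
  incKeys 0 row && row.all fun e =>
    decide (e.1 < D.nroots) && !(e.1 == r) && !(e.1 + r + 1 == D.nroots) &&
    decide (e.2.toList.length ≤ 3) &&
    e.2.toList.zipIdx.all fun q =>
      decide (q.1.1 < D.nroots) && decide ((q.1.2 + 8).toNat ≤ 16) && decide (q.1.2.natAbs ≤ 8) &&
      decide (T.code q.1.1 = (q.2 + 1) * T.code r + T.code e.1)

def rowAt (r : ℕ) : Bool := chkRow D T r (D.chain.getD r #[]).toList

def chkRows : Bool :=
  decide (D.chain.size ≤ D.nroots) && (List.range D.nroots).all (T.rowAt D)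

def rootAt (r : ℕ) : Bool :=
    decide (T.code r = horner ((List.range D.rank).map (T.cf D r))) &&
    ((r + 1 == D.nroots) || decide (T.code r < T.code (r + 1))) &&
    (if D.nroots / 2 ≤ r then decide (0 < T.code r) && decide (D.IsPosRoot r) && !decide (D.IsNegRoot r)
     else decide (T.code r < 0) && !decide (D.IsPosRoot r) && decide (D.IsNegRoot r)) &&
    (D.neg r + r + 1 == D.nroots) &&
    decide ((D.coroot.getD r #[]).toList = (List.range D.rank).map (cor D r)) &&
    decide (((List.range D.rank).map (cor D r)).foldr (fun c g => Int.gcd c g) 0 = 1) &&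
    (List.range D.rank).all fun i =>
      decide ((T.cf D r i).natAbs ≤ 7) && decide (T.cf D (D.neg r) i = -T.cf D r i) &&
      decide (D.cartan i r =
        ((List.range D.rank).map fun j => T.cf D r j * D.cartan i (D.simple j)).sum)

def chkRoots : Bool :=
  decide (2 * (D.nroots / 2) = D.nroots) && decide (2 ≤ D.rank) &&
  (List.range D.nroots).all (T.rootAt D)

def chkSimple : Bool :=
  (List.range D.rank).all fun i =>
    decide (D.simple i < D.nroots) && decide (D.nroots / 2 ≤ D.simple i) &&
    decide (T.sg i (D.simple i) = -1) && decide (D.cartan i (D.simple i) = 2) &&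
    (List.range D.rank).all fun j =>
      decide (T.cf D (D.simple i) j = if j = i then 1 else 0) &&
      decide (cor D (D.simple i) j = if j = i then 1 else 0)

def chkPos : Bool :=
  (List.range D.nroots).all fun r => decide (r < D.nroots / 2) ||
    (((List.range D.rank).all fun i => decide (0 ≤ T.cf D r i)) &&
    ((List.range D.rank).all fun i => (r == D.simple i) || decide (D.nroots / 2 ≤ T.w i r)) &&
    ((List.range D.rank).any fun i => (r == D.simple i) ||
      (decide (D.nroots / 2 ≤ T.w i r) && decide (T.w i r < r))))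

def wAt (i r : ℕ) : Bool :=
    decide (T.w i r < D.nroots) && (T.w i (T.w i r) == r) &&
    (D.reflectRoot i r == T.w i r) &&
    decide (T.sg i r * T.sg i (D.neg r) = 1) &&
    decide (T.sg i r * T.sg i (T.w i r) = (-1) ^ (D.cartan i r).natAbs) &&
    (List.range D.rank).all fun j =>
      decide (T.cf D (T.w i r) j = T.cf D r j - if j = i then D.cartan i r else 0) &&
      decide (cor D (T.w i r) j = cor D r j - if j = i then
        ((List.range D.rank).map fun m => cor D r m * D.cartan m (D.simple i)).sum else 0)

def chkW (i : ℕ) : Bool := (List.range D.nroots).all (T.wAt D i)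

def encEnt : List (ℕ × ℤ) → ℕ
  | [] => 0
  | p :: L => 1 + p.1 + 257 * ((p.2 + 8).toNat + 17 * encEnt L)

def packRow (L : List (ℕ × List (ℕ × ℤ))) : ℕ :=
  (L.map fun e => encEnt e.2 * (1099511627776 : ℕ) ^ e.1).sum

def rawRow (L : List (ℕ × Array (ℕ × ℤ))) : List (ℕ × List (ℕ × ℤ)) :=
  L.map fun e => (e.1, e.2.toList)

def trRow (i r : ℕ) (L : List (ℕ × List (ℕ × ℤ))) : List (ℕ × List (ℕ × ℤ)) :=
  L.map fun e => (T.w i e.1, trEntry (T.w i) (T.sg i) r e.1 e.2)

def chainWAt (i r : ℕ) : Bool :=
    packRow (T.trRow i r (rawRow (D.chain.getD r #[]).toList)) ==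
      packRow (rawRow (D.chain.getD (T.w i r) #[]).toList)

def chkChainW (i : ℕ) : Bool := (List.range D.nroots).all (T.chainWAt D i)

def chkN (i : ℕ) : Bool :=
  (List.range (D.rank + D.nroots)).all fun j =>
    sameVec (wordCol D (nWordZ D (D.simple i)) j) (nCol D (T.w i) (T.sg i) i j)

def isTop (r : ℕ) : Bool := !((List.range D.rank).any fun i => decide (r < T.w i r))

def chkAdd : Bool :=
  (List.range D.nroots).all fun r => !(T.isTop D r) ||
    (List.range 4).all fun a => (List.range 4).all fun b =>
      (List.range (D.rank + D.nroots)).all fun j =>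
        sameVec (aCol2 D r a b j)
          (if a + b < 4 then
            (aCol D r (a + b) j).map (fun q => (q.1, (Nat.choose (a + b) a : ℤ) * q.2))
          else [])

def commAt (r s : ℕ) : Bool := (s == r) || (s == D.neg r) ||
      ((List.range D.rank).any fun i => (T.w i r == r) && decide (s < T.w i s)) ||
      (sameWord D (commLhsZ r s) (commRhsZ D r s) &&
        (List.range D.rank).any fun i => (List.range D.rank).any fun j =>
          !decide (T.cf D r i * T.cf D s j = T.cf D r j * T.cf D s i))

def chkComm : Bool :=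
  (List.range D.nroots).all fun r => !(T.isTop D r) || (List.range D.nroots).all (T.commAt D r)

def chkThird : Bool :=
  (List.range D.nroots).all fun r => (D.chain.getD r #[]).toList.all fun e =>
    decide (e.2.toList.length < 3) ||
      (decide (D.chainRoot r e.1 1 = D.chainRoot e.1 r 1) &&
        match D.chainRoot r e.1 1 with
        | none => true
        | some k => decide ((D.chainM k r 2) % 3 = 0) && decide ((D.chainM k e.1 2) % 3 = 0))

variable {D T}

/-! assembling checks from chunks -/

theorem all_range_split {f : ℕ → Bool} {a b : ℕ} (h₁ : (List.range a).all f = true)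
    (h₂ : (List.range' a b).all f = true) : (List.range (a + b)).all f = true := by
  rw [List.range_eq_range', ← List.range'_append_1, List.all_append, Bool.and_eq_true,
    ← List.range_eq_range', Nat.zero_add]
  exact ⟨h₁, h₂⟩

theorem chkRows_of (h₀ : decide (D.chain.size ≤ D.nroots) = true)
    (h : (List.range D.nroots).all (T.rowAt D) = true) : T.chkRows D = true := by
  simp [chkRows, h₀, h]

theorem chkRoots_of (h₀ : (decide (2 * (D.nroots / 2) = D.nroots) && decide (2 ≤ D.rank)) = true)
    (h : (List.range D.nroots).all (T.rootAt D) = true) : T.chkRoots D = true := by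
  simp only [chkRoots, h₀, h, Bool.and_true]

theorem chkComm_of (h₀ : ∀ r, r < D.nroots → T.isTop D r = true →
    (List.range D.nroots).all (T.commAt D r) = true) : T.chkComm D = true := by
  simp only [chkComm, List.all_eq_true, List.mem_range, Bool.or_eq_true]
  intro r hr
  cases htop : T.isTop D r with
  | false => left; rfl
  | true =>
    right
    intro s hs
    exact List.all_eq_true.1 (h₀ r hr htop) s (List.mem_range.2 hs)

/-! soundness -/

theorem incKeys_sound : ∀ {lb : ℕ} {L : List (ℕ × Array (ℕ × ℤ))}, incKeys lb L = true →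
    (L.map Prod.fst).Nodup ∧ ∀ e ∈ L, lb ≤ e.1
  | _, [], _ => by simp
  | lb, e :: L, h => by
    simp only [incKeys, Bool.and_eq_true, decide_eq_true_eq] at h
    obtain ⟨h1, h2⟩ := incKeys_sound h.2
    refine ⟨?_, ?_⟩
    · simp only [List.map_cons, List.nodup_cons, List.mem_map, not_exists, not_and]
      exact ⟨fun x hx hxe => absurd (h2 x hx) (by omega), h1⟩
    · intro x hx
      rcases List.mem_cons.1 hx with rfl | hx
      · exact h.1
      · exact le_trans h.1 (Nat.le_of_succ_le (h2 x hx))

theorem horner_zero : ∀ (L : List ℤ), (∀ a ∈ L, a.natAbs < 64) → ∀ A : ℤ,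
    L.foldl (fun a b => a * 64 + b) A = 0 → A = 0 ∧ ∀ a ∈ L, a = 0
  | [], _, A, h => ⟨h, by simp⟩
  | a :: L, hL, A, h => by
    simp only [List.foldl_cons] at h
    obtain ⟨h1, h2⟩ := horner_zero L (fun b hb => hL b (by simp [hb])) _ h
    have := hL a (by simp)
    refine ⟨by omega, ?_⟩
    intro b hb
    rcases List.mem_cons.1 hb with rfl | hb
    · omega
    · exact h2 b hb

theorem horner_lin {α : Type*} (L : List α) (f g e : α → ℤ) (c : ℤ)
    (h : horner (L.map f) = c * horner (L.map g) + horner (L.map e)) :
    horner (L.map fun x => f x - c * g x - e x) = 0 := by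
  have key : ∀ (L : List α) (A B C : ℤ),
      (L.map fun x => f x - c * g x - e x).foldl (fun a b => a * 64 + b) (A - c * B - C) =
        (L.map f).foldl (fun a b => a * 64 + b) A - c * (L.map g).foldl (fun a b => a * 64 + b) B
          - (L.map e).foldl (fun a b => a * 64 + b) C := by
    intro L
    induction L with
    | nil => intros; rfl
    | cons x L ih =>
      intro A B C
      simp only [List.map_cons, List.foldl_cons]
      rw [← ih]
      congr 1
      ring
  have := key L 0 0 0
  unfold horner at *
  simp only [mul_zero, sub_zero] at this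
  rw [this]
  omega

theorem neg_eq_of (h : T.chkRoots D = true) (r : ℕ) (hr : r < D.nroots) :
    D.neg r = D.nroots - 1 - r := by
  simp only [chkRoots, rootAt, Bool.and_eq_true, List.all_eq_true, List.mem_range, beq_iff_eq] at h
  have := (h.2 r hr).1.1.1.2
  omega

theorem mem_entry {r s : ℕ} {p : ℕ × ℤ} (hp : p ∈ D.chainEntry r s) :
    ∃ e ∈ (D.chain.getD r #[]).toList, e.1 = s ∧ D.chainEntry r s = e.2.toList := by
  unfold chainEntry at hp ⊢
  cases hf : (D.chain.getD r #[]).toList.find? (fun e => decide (e.1 = s)) with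
  | none => rw [hf] at hp; simp at hp
  | some e => exact ⟨e, List.mem_of_find?_eq_some hf,
      by simpa using List.find?_some hf, by simp⟩

def lk (L : List (ℕ × List (ℕ × ℤ))) (s : ℕ) : List (ℕ × ℤ) :=
  match L.find? (fun e => decide (e.1 = s)) with
  | none => []
  | some e => e.2

theorem chainEntry_eq_lk (r s : ℕ) :
    D.chainEntry r s = lk (rawRow (D.chain.getD r #[]).toList) s := by
  unfold chainEntry lk rawRow
  rw [List.find?_map]
  cases h : (D.chain.getD r #[]).toList.find? (fun e => decide (e.1 = s)) with
  | none =>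
    rw [show ((fun e : ℕ × List (ℕ × ℤ) => decide (e.1 = s)) ∘
      fun e : ℕ × Array (ℕ × ℤ) => (e.1, e.2.toList)) = fun e => decide (e.1 = s) from rfl, h]
    rfl
  | some e =>
    rw [show ((fun e : ℕ × List (ℕ × ℤ) => decide (e.1 = s)) ∘
      fun e : ℕ × Array (ℕ × ℤ) => (e.1, e.2.toList)) = fun e => decide (e.1 = s) from rfl, h]
    rfl

theorem lk_cons (e : ℕ × List (ℕ × ℤ)) (L : List (ℕ × List (ℕ × ℤ))) (s : ℕ) :
    lk (e :: L) s = if e.1 = s then e.2 else lk L s := by
  unfold lk
  by_cases h : e.1 = s <;> simp [h]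

theorem packRow_eq : ∀ (L : List (ℕ × List (ℕ × ℤ))), (L.map Prod.fst).Nodup →
    ∀ n, (∀ e ∈ L, e.1 < n) →
    packRow L = ∑ s ∈ Finset.range n, encEnt (lk L s) * (1099511627776 : ℕ) ^ s
  | [], _, n, _ => by simp [packRow, lk, encEnt]
  | e :: L, h, n, hn => by
    simp only [List.map_cons, List.nodup_cons] at h
    have ih := packRow_eq L h.2 n (fun x hx => hn x (by simp [hx]))
    have he : lk L e.1 = [] := by
      unfold lk
      rw [List.find?_eq_none.2]
      intro x hx hxe
      exact h.1 (List.mem_map.2 ⟨x, hx, by simpa using hxe⟩)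
    show encEnt e.2 * _ + packRow L = _
    rw [ih]
    have hsplit : ∀ s, encEnt (lk (e :: L) s) * (1099511627776 : ℕ) ^ s =
        (if e.1 = s then encEnt e.2 * (1099511627776 : ℕ) ^ s else 0) +
          encEnt (lk L s) * (1099511627776 : ℕ) ^ s := by
      intro s
      rw [lk_cons]
      by_cases hs : e.1 = s
      · subst hs; simp [he, encEnt]
      · simp [hs]
    simp only [hsplit, Finset.sum_add_distrib]
    congr 1
    rw [Finset.sum_ite_eq, if_pos (Finset.mem_range.2 (hn e (by simp)))]

theorem digits_inj (K : ℕ) (hK : 0 < K) : ∀ (n : ℕ) (f g : ℕ → ℕ),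
    (∀ s < n, f s < K) → (∀ s < n, g s < K) →
    ∑ s ∈ Finset.range n, f s * K ^ s = ∑ s ∈ Finset.range n, g s * K ^ s →
    ∀ s < n, f s = g s
  | 0, _, _, _, _, _, s, hs => absurd hs (by omega)
  | n + 1, f, g, hf, hg, h, s, hs => by
    rw [Finset.sum_range_succ', Finset.sum_range_succ'] at h
    simp only [pow_succ, ← mul_assoc, ← Finset.sum_mul, pow_zero, mul_one] at h
    have h0 : f 0 = g 0 := by
      have := congrArg (· % K) h
      simpa [Nat.add_mod, Nat.mul_mod_left, Nat.mod_eq_of_lt (hf 0 (by omega)),
        Nat.mod_eq_of_lt (hg 0 (by omega))] using this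
    rw [h0] at h
    have h1 := Nat.eq_of_mul_eq_mul_right hK (Nat.add_right_cancel h)
    rcases s with _ | s
    · exact h0
    · exact digits_inj K hK n (fun s => f (s + 1)) (fun s => g (s + 1))
        (fun s hs => hf _ (by omega)) (fun s hs => hg _ (by omega)) h1 s (by omega)

def GoodEnt (D : ChevalleyDatum) (L : List (ℕ × ℤ)) : Prop :=
  L.length ≤ 3 ∧ ∀ p ∈ L, p.1 < D.nroots ∧ p.2.natAbs ≤ 8

theorem encEnt_inj (hn : D.nroots ≤ 256) : ∀ L M : List (ℕ × ℤ),
    GoodEnt D L → GoodEnt D M → encEnt L = encEnt M → L = M
  | [], [], _, _, _ => rfl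
  | [], p :: M, _, _, h => by simp only [encEnt] at h; omega
  | p :: L, [], _, _, h => by simp only [encEnt] at h; omega
  | p :: L, q :: M, hL, hM, h => by
    have hp := hL.2 p (by simp)
    have hq := hM.2 q (by simp)
    simp only [encEnt] at h
    have e1 : p.1 = q.1 := by omega
    have e2 : (p.2 + 8).toNat = (q.2 + 8).toNat := by omega
    have e3 : encEnt L = encEnt M := by omega
    have := encEnt_inj hn L M ⟨by have := hL.1; simp at this; omega, fun x hx => hL.2 x (by simp [hx])⟩
      ⟨by have := hM.1; simp at this; omega, fun x hx => hM.2 x (by simp [hx])⟩ e3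
    rw [this, Prod.ext e1 (show p.2 = q.2 by omega)]

theorem encEnt_lt (hn : D.nroots ≤ 256) {L : List (ℕ × ℤ)} (h : GoodEnt D L) :
    encEnt L < 1099511627776 := by
  obtain ⟨h1, h2⟩ := h
  match L, h1 with
  | [], _ => simp [encEnt]
  | [p], _ => have := h2 p (by simp); simp [encEnt]; omega
  | [p, q], _ => have := h2 p (by simp); have := h2 q (by simp); simp [encEnt]; omega
  | [p, q, o], _ =>
    have := h2 p (by simp); have := h2 q (by simp); have := h2 o (by simp)
    simp [encEnt]; omega
  | _ :: _ :: _ :: _ :: _, hh => simp at hh; omega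

theorem trEntry_good {w : ℕ → ℕ} {sg : ℕ → ℤ} (hw : ∀ r < D.nroots, w r < D.nroots)
    (hsg : ∀ r, sg r = 1 ∨ sg r = -1) (r s : ℕ) {L : List (ℕ × ℤ)} (h : GoodEnt D L) :
    GoodEnt D (trEntry w sg r s L) := by
  refine ⟨by simpa [trEntry] using h.1, ?_⟩
  intro p hp
  simp only [trEntry, List.mem_map] at hp
  obtain ⟨q, hq, rfl⟩ := hp
  have hq' := h.2 q.1 (List.fst_mem_of_mem_zipIdx hq)
  refine ⟨hw _ hq'.1, ?_⟩
  have e : ∀ a, (sg a).natAbs = 1 := fun a => by rcases hsg a with h | h <;> simp [h]
  simp [Int.natAbs_mul, Int.natAbs_pow, e, hq'.2]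

theorem sg_pm (T : Tab) (i r : ℕ) : T.sg i r = 1 ∨ T.sg i r = -1 := by
  unfold sg; split <;> simp

/-- the certificate obtained from the checks -/
def toCert (hn : D.nroots ≤ 256) (hrows : T.chkRows D = true) (hroots : T.chkRoots D = true)
    (hsimple : T.chkSimple D = true) (hpos : T.chkPos D = true) (hw : ∀ i < D.rank, T.chkW D i = true)
    (hcw : ∀ i < D.rank, T.chkChainW D i = true) (hN : ∀ i < D.rank, T.chkN D i = true)
    (hadd : T.chkAdd D = true) (hcomm : T.chkComm D = true) (hthird : chkThird D = true) :
    Cert D :=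
  by
  have hrows' := hrows
  simp only [chkRows, rowAt, chkRow, Bool.and_eq_true, List.all_eq_true, List.mem_range,
      decide_eq_true_eq] at hrows'
  have hroots' := hroots
  simp only [chkRoots, rootAt, Bool.and_eq_true, List.all_eq_true, List.mem_range, decide_eq_true_eq,
      beq_iff_eq, Bool.or_eq_true] at hroots'
  have hneg := neg_eq_of hroots
  have hsize : ∀ r, D.nroots ≤ r → D.chain.getD r #[] = #[] := fun r hr => by
    have := hrows'.1
    simp [Array.getD, show ¬ r < D.chain.size by omega]
  have hentry : ∀ r, ∀ e ∈ (D.chain.getD r #[]).toList,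
      e.1 < D.nroots ∧ e.1 ≠ r ∧ e.1 ≠ D.neg r ∧ e.2.toList.length ≤ 3 ∧
        ∀ p ∈ e.2.toList, p.1 < D.nroots ∧ p.2.natAbs ≤ 8 := fun r e he => by
    by_cases hr : r < D.nroots
    · obtain ⟨⟨⟨⟨h1, h2⟩, h3⟩, h4⟩, h5⟩ := (hrows'.2 r hr).2 e he
      simp only [Bool.not_eq_true', beq_eq_false_iff_ne] at h2 h3
      refine ⟨h1, h2, by rw [hneg r hr]; omega, h4, fun p hp => ?_⟩
      obtain ⟨k, hk, hkp⟩ := List.mem_iff_getElem.1 hp
      have := h5 (p, k) (List.mem_iff_getElem.2 ⟨k, by simpa using hk, by simp [hkp]⟩)
      exact ⟨this.1.1.1, this.1.2⟩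
    · rw [hsize r (by omega)] at he; simp at he
  have hgood : ∀ r s, GoodEnt D (lk (rawRow (D.chain.getD r #[]).toList) s) := fun r s => by
    rw [← chainEntry_eq_lk]
    cases hL : D.chainEntry r s with
    | nil => exact ⟨by simp, by simp⟩
    | cons p L =>
      obtain ⟨e, he, -, heq⟩ := mem_entry (show p ∈ D.chainEntry r s by simp [hL])
      rw [← hL, heq]
      exact ⟨(hentry r e he).2.2.2.1, (hentry r e he).2.2.2.2⟩
  have hnodup : ∀ r < D.nroots, ((D.chain.getD r #[]).toList.map Prod.fst).Nodup := fun r hr =>
    (incKeys_sound (hrows'.2 r hr).1).1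
  have hwl : ∀ i < D.rank, ∀ r < D.nroots, T.w i r < D.nroots ∧ T.w i (T.w i r) = r :=
    fun i hi r hr => by
    have h := hw i hi
    simp only [chkW, wAt, Bool.and_eq_true, List.all_eq_true, List.mem_range, decide_eq_true_eq,
      beq_iff_eq] at h
    exact ⟨(h r hr).1.1.1.1.1, (h r hr).1.1.1.1.2⟩
  exact
  { cf := T.cf D
    code := T.code
    w := T.w
    sg := T.sg
    two_half := hroots'.1.1
    rank_pos := hroots'.1.2
    keys_nodup := hnodup
    chain_size := hsize
    entry_lt := fun r e he => by
      obtain ⟨a, b, c, d, f⟩ := hentry r e he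
      exact ⟨a, b, c, d, fun p hp => (f p hp).1⟩
    entry_cf := fun r hr s k u hku i hi => by
      unfold chainRoot at hku
      simp only [Nat.add_sub_cancel, Option.map_eq_some_iff] at hku
      obtain ⟨p, hp, rfl⟩ := hku
      obtain ⟨e, he, rfl, heq⟩ := mem_entry (List.mem_of_getElem? hp)
      rw [heq] at hp
      obtain ⟨hk, hkp⟩ := List.getElem?_eq_some_iff.1 hp
      have h := ((hrows'.2 r hr).2 e he).2 (p, k)
        (List.mem_iff_getElem.2 ⟨k, by simpa using hk, by simp [hkp]⟩)
      have hu := h.1.1.1
      have hcode := h.2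
      simp only at hu hcode
      have hs := (hentry r e he).1
      rw [(hroots'.2 _ hu).1.1.1.1.1.1, (hroots'.2 _ hr).1.1.1.1.1.1,
        (hroots'.2 _ hs).1.1.1.1.1.1] at hcode
      have hb : ∀ a < D.nroots, ∀ j < D.rank, (T.cf D a j).natAbs ≤ 7 :=
        fun a ha j hj => ((hroots'.2 a ha).2 j hj).1.1
      have hklt : k < 3 := lt_of_lt_of_le hk (hentry r e he).2.2.2.1
      have h0 := (horner_zero _ ?_ 0 (horner_lin _ _ _ _ _ hcode)).2
      · have := h0 _ (List.mem_map.2 ⟨i, List.mem_range.2 hi, rfl⟩)
        omega
      · intro a ha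
        simp only [List.mem_map, List.mem_range] at ha
        obtain ⟨j, hj, rfl⟩ := ha
        have := hb _ hu j hj
        have := hb _ hr j hj
        have := hb _ hs j hj
        have : ((k : ℤ) + 1) = 1 ∨ ((k : ℤ) + 1) = 2 ∨ ((k : ℤ) + 1) = 3 := by omega
        rcases this with e | e | e <;> rw [e] <;> omega
    code_eq := fun r hr => (hroots'.2 r hr).1.1.1.1.1.1
    code_lt := fun r hr => by
      rcases (hroots'.2 r (by omega)).1.1.1.1.1.2 with h | h
      · omega
      · exact h
    code_pos := fun r hr => by
      have h := (hroots'.2 r hr).1.1.1.1.2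
      by_cases hp : D.nroots / 2 ≤ r
      · simp [hp] at h
        exact ⟨⟨fun _ => hp, fun _ => h.1.1⟩, by omega⟩
      · simp [hp] at h
        exact ⟨⟨fun h' => by omega, fun h' => absurd h' hp⟩, by omega⟩
    cf_bound := fun r hr i hi => ((hroots'.2 r hr).2 i hi).1.1
    neg_eq := hneg
    cf_neg := fun r hr i hi => ((hroots'.2 r hr).2 i hi).1.2
    pos_iff := fun r hr => by
      have h := (hroots'.2 r hr).1.1.1.1.2
      by_cases hp : D.nroots / 2 ≤ r
      · simp [hp] at h
        exact ⟨⟨fun _ => hp, fun _ => h.1.2⟩, ⟨fun h' => absurd h' h.2, fun h' => absurd h' (by omega)⟩⟩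
      · simp [hp] at h
        exact ⟨⟨fun h' => absurd h' h.1.2, fun h' => absurd h' hp⟩, ⟨fun _ => by omega, fun _ => h.2⟩⟩
    cor_size := fun r hr => (hroots'.2 r hr).1.1.2
    simple_lt := fun i hi => by
      have h := hsimple
      simp only [chkSimple, Bool.and_eq_true, List.all_eq_true, List.mem_range,
        decide_eq_true_eq] at h
      exact ⟨(h i hi).1.1.1.1, (h i hi).1.1.1.2⟩
    cf_simple := fun i hi j hj => by
      have h := hsimple
      simp only [chkSimple, Bool.and_eq_true, List.all_eq_true, List.mem_range,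
        decide_eq_true_eq] at h
      exact ((h i hi).2 j hj).1
    cartan_self := fun i hi => by
      have h := hsimple
      simp only [chkSimple, Bool.and_eq_true, List.all_eq_true, List.mem_range,
        decide_eq_true_eq] at h
      exact (h i hi).1.2
    cor_simple := fun i hi j hj => by
      have h := hsimple
      simp only [chkSimple, Bool.and_eq_true, List.all_eq_true, List.mem_range,
        decide_eq_true_eq] at h
      exact ((h i hi).2 j hj).2
    cartan_lin := fun i hi r hr => ((hroots'.2 r hr).2 i hi).2
    cor_gcd := fun r hr => (hroots'.2 r hr).1.2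
    w_lt := hwl
    cf_nonneg := fun r hr hp i hi => by
      have h := hpos
      simp only [chkPos, Bool.or_eq_true, Bool.and_eq_true, List.all_eq_true, List.any_eq_true,
        List.mem_range, decide_eq_true_eq, beq_iff_eq] at h
      rcases h r hr with h' | h'
      · omega
      · exact h'.1.1 i hi
    w_pos := fun i hi r hr hp hne => by
      have h := hpos
      simp only [chkPos, Bool.or_eq_true, Bool.and_eq_true, List.all_eq_true, List.any_eq_true,
        List.mem_range, decide_eq_true_eq, beq_iff_eq] at h
      rcases h r hr with h' | h'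
      · omega
      · exact (h'.1.2 i hi).resolve_left hne
    w_down := fun r hr hp => by
      have h := hpos
      simp only [chkPos, Bool.or_eq_true, Bool.and_eq_true, List.all_eq_true, List.any_eq_true,
        List.mem_range, decide_eq_true_eq, beq_iff_eq] at h
      rcases h r hr with h' | h'
      · omega
      · exact h'.2
    w_reflect := fun i hi r hr => by
      have h := hw i hi
      simp only [chkW, wAt, Bool.and_eq_true, List.all_eq_true, List.mem_range, decide_eq_true_eq,
        beq_iff_eq] at h
      exact (h r hr).1.1.1.2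
    cf_w := fun i hi r hr j hj => by
      have h := hw i hi
      simp only [chkW, wAt, Bool.and_eq_true, List.all_eq_true, List.mem_range, decide_eq_true_eq,
        beq_iff_eq] at h
      exact ((h r hr).2 j hj).1
    sg_pm := T.sg_pm
    sg_simple := fun i hi => by
      have h := hsimple
      simp only [chkSimple, Bool.and_eq_true, List.all_eq_true, List.mem_range,
        decide_eq_true_eq] at h
      exact (h i hi).1.1.2
    sg_rel := fun i hi r hr => by
      have h := hw i hi
      simp only [chkW, wAt, Bool.and_eq_true, List.all_eq_true, List.mem_range, decide_eq_true_eq,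
        beq_iff_eq] at h
      exact ⟨(h r hr).1.1.2, (h r hr).1.2⟩
    cor_w := fun i hi r hr j hj => by
      have h := hw i hi
      simp only [chkW, wAt, Bool.and_eq_true, List.all_eq_true, List.mem_range, decide_eq_true_eq,
        beq_iff_eq] at h
      exact ((h r hr).2 j hj).2
    chain_w := fun i hi r hr s hs => by
      have h := hcw i hi
      simp only [chkChainW, chainWAt, List.all_eq_true, List.mem_range, beq_iff_eq] at h
      have heq := h r hr
      have hr' := (hwl i hi r hr).1
      set L := rawRow (D.chain.getD r #[]).toList with hLdef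
      set M := rawRow (D.chain.getD (T.w i r) #[]).toList with hMdef
      have hk : ∀ a, ∀ e ∈ rawRow (D.chain.getD a #[]).toList, e.1 < D.nroots := fun a e he => by
        simp only [rawRow, List.mem_map] at he
        obtain ⟨e', he', rfl⟩ := he
        exact (hentry a e' he').1
      have hraw : ∀ a, (rawRow (D.chain.getD a #[]).toList).map Prod.fst =
          (D.chain.getD a #[]).toList.map Prod.fst := fun a => by simp [rawRow, Function.comp_def]
      have hLn : ((T.trRow i r L).map Prod.fst).Nodup := by
        have : (T.trRow i r L).map Prod.fst = (L.map Prod.fst).map (T.w i) := by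
          simp [trRow, Function.comp_def]
        rw [this, hLdef, hraw]
        refine (hnodup r hr).map_on fun a ha b hb hab => ?_
        simp only [List.mem_map] at ha hb
        obtain ⟨e, he, rfl⟩ := ha
        obtain ⟨e', he', rfl⟩ := hb
        rw [← (hwl i hi _ (hentry r e he).1).2, hab, (hwl i hi _ (hentry r e' he').1).2]
      have hlk : ∀ a < D.nroots,
          lk (T.trRow i r L) (T.w i a) = trEntry (T.w i) (T.sg i) r a (lk L a) := by
        intro a ha
        have : ∀ N : List (ℕ × List (ℕ × ℤ)), (∀ e ∈ N, e.1 < D.nroots) →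
            lk (T.trRow i r N) (T.w i a) = trEntry (T.w i) (T.sg i) r a (lk N a) := by
          intro N hN
          induction N with
          | nil => simp [trRow, lk, trEntry]
          | cons e N ih =>
            have hinj : T.w i e.1 = T.w i a ↔ e.1 = a := ⟨fun he => by
              rw [← (hwl i hi _ (hN e (by simp))).2, he, (hwl i hi a ha).2], fun he => he ▸ rfl⟩
            simp only [trRow, List.map_cons, lk_cons, hinj] at ih ⊢
            by_cases he : e.1 = a
            · simp [he]
            · simp [he, ih fun x hx => hN x (by simp [hx])]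
        exact this L (hk r)
      rw [packRow_eq _ hLn D.nroots (fun e he => by
          simp only [trRow, List.mem_map] at he
          obtain ⟨e', he', rfl⟩ := he
          exact (hwl i hi _ (hk r e' he')).1),
        packRow_eq _ ((hraw _).symm ▸ hnodup _ hr') D.nroots (hk _)] at heq
      have hg : ∀ b < D.nroots, GoodEnt D (lk (T.trRow i r L) b) := by
        intro b hb
        rw [← (hwl i hi b hb).2, hlk _ (hwl i hi b hb).1]
        exact trEntry_good (fun a ha => (hwl i hi a ha).1) (T.sg_pm i) _ _ (hgood r _)
      have := digits_inj _ (by norm_num) D.nroots _ _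
        (fun b hb => encEnt_lt hn (hg b hb)) (fun b _ => encEnt_lt hn (hgood _ b)) heq
        (T.w i s) (hwl i hi s hs).1
      rw [chainEntry_eq_lk, chainEntry_eq_lk, ← hlk s hs]
      exact (encEnt_inj hn _ _ (hg _ (hwl i hi s hs).1) (hgood _ _) this).symm
    n_word := fun i hi j hj => by
      have h := hN i hi
      simp only [chkN, List.all_eq_true, List.mem_range] at h
      exact h j hj
    top_add := fun r hr htop a ha b hb j hj => by
      have h := hadd
      simp only [chkAdd, List.all_eq_true, List.mem_range, Bool.or_eq_true] at h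
      rcases h r hr with h' | h'
      · exfalso
        simp [isTop] at h'
        obtain ⟨i, hi, hi'⟩ := h'
        exact htop i hi hi'
      · exact h' a ha b hb j hj
    top_comm := fun r hr htop s hs h1 h2 hstab => by
      have h := hcomm
      simp only [chkComm, commAt, List.all_eq_true, List.mem_range, Bool.or_eq_true] at h
      rcases h r hr with h' | h'
      · exfalso
        simp [isTop] at h'
        obtain ⟨i, hi, hi'⟩ := h'
        exact htop i hi hi'
      · rcases h' s hs with ((h' | h') | h') | h'
        · exact absurd (beq_iff_eq.1 h') h1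
        · exact absurd (beq_iff_eq.1 h') h2
        · simp at h'
          obtain ⟨i, hi, hr', hs'⟩ := h'
          exact absurd hs' (hstab i hi hr')
        · simp at h'
          obtain ⟨hw', i, hi, j, hj, hij⟩ := h'
          exact ⟨hw', i, hi, j, hj, hij⟩
    third := fun r hr s hs hsome => by
      have h := hthird
      simp only [chkThird, List.all_eq_true, List.mem_range, Bool.or_eq_true,
        decide_eq_true_eq, Bool.and_eq_true] at h
      unfold chainRoot at hsome
      simp only [Option.isSome_map] at hsome
      obtain ⟨p, hp⟩ := Option.isSome_iff_exists.1 hsome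
      obtain ⟨e, he, rfl, heq⟩ := mem_entry (List.mem_of_getElem? hp)
      rcases h r hr e he with h' | ⟨h1, h2⟩
      · rw [heq] at hp
        obtain ⟨hl, -⟩ := List.getElem?_eq_some_iff.1 hp
        omega
      · refine ⟨h1, fun k hk => ?_⟩
        rw [hk] at h2
        simp only [Bool.and_eq_true, decide_eq_true_eq] at h2
        exact ⟨Int.dvd_of_emod_eq_zero h2.1, Int.dvd_of_emod_eq_zero h2.2⟩ }

end Tab

end Cfsg.Agent.Chevalley
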