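/-
Checked auxiliary tables for the Chevalley datum of type B2.
-/
import Cfsg.Agent.Chevalley.Check
import Cfsg.Prelude.Def_ChevB2

set_option autoImplicit false
set_option maxRecDepth 100000

namespace Cfsg.Agent.Chevalley.B2

open Cfsg.Lie

def tab : Tab where
  cfP := 0x81828181808181807f80807f7f7f7f7e
  codeP := 0x80000000000000818000000000000041800000000000004080000000000000017fffffffffffffff7fffffffffffffc07fffffffffffffbf7fffffffffffff7f
  wP := [0x406020700050103,
    0x705060304010200]
  negP := [0xff, 0x5a]

theorem chkRows : tab.chkRows chevB2 = true := by decide +kernel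

theorem chkRoots : tab.chkRoots chevB2 = true := by decide +kernel

theorem chkSimple : tab.chkSimple chevB2 = true := by decide +kernel

theorem chkPos : tab.chkPos chevB2 = true := by decide +kernel

theorem chkThird : Tab.chkThird chevB2 = true := by decide +kernel

theorem chkAdd : tab.chkAdd chevB2 = true := by decide +kernel

theorem chkComm : tab.chkComm chevB2 = true := by decide +kernel

theorem chkW0 : tab.chkW chevB2 0 = true := by decide +kernel

theorem chkChainW0 : tab.chkChainW chevB2 0 = true := by decide +kernel

theorem chkN0 : tab.chkN chevB2 0 = true := by decide +kernel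

theorem chkW1 : tab.chkW chevB2 1 = true := by decide +kernel

theorem chkChainW1 : tab.chkChainW chevB2 1 = true := by decide +kernel

theorem chkN1 : tab.chkN chevB2 1 = true := by decide +kernel

theorem chkW : ∀ i < chevB2.rank, tab.chkW chevB2 i = true := by
  intro i hi
  match i, hi with
  | 0, _ => exact chkW0
  | 1, _ => exact chkW1
  | k + 2, hk => exact absurd hk (by show ¬ (k + 2 < 2); omega)

theorem chkChainW : ∀ i < chevB2.rank, tab.chkChainW chevB2 i = true := by
  intro i hi
  match i, hi with
  | 0, _ => exact chkChainW0
  | 1, _ => exact chkChainW1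
  | k + 2, hk => exact absurd hk (by show ¬ (k + 2 < 2); omega)

theorem chkN : ∀ i < chevB2.rank, tab.chkN chevB2 i = true := by
  intro i hi
  match i, hi with
  | 0, _ => exact chkN0
  | 1, _ => exact chkN1
  | k + 2, hk => exact absurd hk (by show ¬ (k + 2 < 2); omega)

/-- the certificate -/
def cert : Cert chevB2 :=
  Tab.toCert (T := tab) (by show 8 ≤ 256; omega) chkRows chkRoots chkSimple chkPos chkW chkChainW chkN
    chkAdd chkComm chkThird

end Cfsg.Agent.Chevalley.B2
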