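/-
Checked auxiliary tables for the Chevalley datum of type D4.
-/
import Cfsg.Agent.Chevalley.Check
import Cfsg.Prelude.Def_ChevD4

set_option autoImplicit false
set_option maxRecDepth 100000

namespace Cfsg.Agent.Chevalley.D4

open Cfsg.Lie

def tab : Tab where
  cfP := 0x8181828181818181808181818180818180808181808080818181818080818180818081808080818080818080818080807f808080807f808080807f807f807f80807f7f807f7f7f808080807f80807f7f7f807f7f807f7f7f7f7f7f7f7f7f7e7f
  codeP := 0x8000000000042041800000000004104180000000000410408000000000041001800000000004100080000000000400008000000000001041800000000000104080000000000010018000000000001000800000000000004080000000000000017fffffffffffffff7fffffffffffffc07ffffffffffff0007fffffffffffefff7fffffffffffefc07fffffffffffefbf7ffffffffffc00007ffffffffffbf0007ffffffffffbefff7ffffffffffbefc07ffffffffffbefbf7ffffffffffbdfbf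
  wP := [0x1711100f0e05161514130d0c0b0a04030201120908070600,
    0x161715141213110d0c09100f08070e0b0a06040503020001,
    0x1714131615120f0e11100a0c0b0d07060908050201040300,
    0x17151613141210110e0f0d0b0c0a08090607050304010200]
  negP := [0x7c3e0, 0x887e11, 0x6324c6, 0x52994a]

theorem chkRows : tab.chkRows chevD4 = true := by decide +kernel

theorem chkRoots : tab.chkRoots chevD4 = true := by decide +kernel

theorem chkSimple : tab.chkSimple chevD4 = true := by decide +kernel

theorem chkPos : tab.chkPos chevD4 = true := by decide +kernel

theorem chkThird : Tab.chkThird chevD4 = true := by decide +kernel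

theorem chkAdd : tab.chkAdd chevD4 = true := by decide +kernel

theorem chkComm : tab.chkComm chevD4 = true := by decide +kernel

theorem chkW0 : tab.chkW chevD4 0 = true := by decide +kernel

theorem chkChainW0 : tab.chkChainW chevD4 0 = true := by decide +kernel

theorem chkN0 : tab.chkN chevD4 0 = true := by decide +kernel

theorem chkW1 : tab.chkW chevD4 1 = true := by decide +kernel

theorem chkChainW1 : tab.chkChainW chevD4 1 = true := by decide +kernel

theorem chkN1 : tab.chkN chevD4 1 = true := by decide +kernel

theorem chkW2 : tab.chkW chevD4 2 = true := by decide +kernel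

theorem chkChainW2 : tab.chkChainW chevD4 2 = true := by decide +kernel

theorem chkN2 : tab.chkN chevD4 2 = true := by decide +kernel

theorem chkW3 : tab.chkW chevD4 3 = true := by decide +kernel

theorem chkChainW3 : tab.chkChainW chevD4 3 = true := by decide +kernel

theorem chkN3 : tab.chkN chevD4 3 = true := by decide +kernel

theorem chkW : ∀ i < chevD4.rank, tab.chkW chevD4 i = true := by
  intro i hi
  match i, hi with
  | 0, _ => exact chkW0
  | 1, _ => exact chkW1
  | 2, _ => exact chkW2
  | 3, _ => exact chkW3
  | k + 4, hk => exact absurd hk (by show ¬ (k + 4 < 4); omega)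

theorem chkChainW : ∀ i < chevD4.rank, tab.chkChainW chevD4 i = true := by
  intro i hi
  match i, hi with
  | 0, _ => exact chkChainW0
  | 1, _ => exact chkChainW1
  | 2, _ => exact chkChainW2
  | 3, _ => exact chkChainW3
  | k + 4, hk => exact absurd hk (by show ¬ (k + 4 < 4); omega)

theorem chkN : ∀ i < chevD4.rank, tab.chkN chevD4 i = true := by
  intro i hi
  match i, hi with
  | 0, _ => exact chkN0
  | 1, _ => exact chkN1
  | 2, _ => exact chkN2
  | 3, _ => exact chkN3
  | k + 4, hk => exact absurd hk (by show ¬ (k + 4 < 4); omega)

/-- the certificate -/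
def cert : Cert chevD4 :=
  Tab.toCert (T := tab) (by show 24 ≤ 256; omega) chkRows chkRoots chkSimple chkPos chkW chkChainW chkN
    chkAdd chkComm chkThird

end Cfsg.Agent.Chevalley.D4
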