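/-
The checked certificate for the Chevalley datum of type E8.
-/
import Cfsg.Agent.Chevalley.DataE8.Base
import Cfsg.Agent.Chevalley.DataE8.Roots
import Cfsg.Agent.Chevalley.DataE8.Top
import Cfsg.Agent.Chevalley.DataE8.Refl0
import Cfsg.Agent.Chevalley.DataE8.Refl1
import Cfsg.Agent.Chevalley.DataE8.Refl2
import Cfsg.Agent.Chevalley.DataE8.Refl3
import Cfsg.Agent.Chevalley.DataE8.Refl4
import Cfsg.Agent.Chevalley.DataE8.Refl5
import Cfsg.Agent.Chevalley.DataE8.Refl6
import Cfsg.Agent.Chevalley.DataE8.Refl7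

set_option autoImplicit false
set_option maxRecDepth 100000

namespace Cfsg.Agent.Chevalley.E8

open Cfsg.Lie

theorem chkW : ∀ i < chevE8.rank, tab.chkW chevE8 i = true := by
  intro i hi
  match i, hi with
  | 0, _ => exact chkW0
  | 1, _ => exact chkW1
  | 2, _ => exact chkW2
  | 3, _ => exact chkW3
  | 4, _ => exact chkW4
  | 5, _ => exact chkW5
  | 6, _ => exact chkW6
  | 7, _ => exact chkW7
  | k + 8, hk => exact absurd hk (by show ¬ (k + 8 < 8); omega)

theorem chkChainW : ∀ i < chevE8.rank, tab.chkChainW chevE8 i = true := by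
  intro i hi
  match i, hi with
  | 0, _ => exact chkChainW0
  | 1, _ => exact chkChainW1
  | 2, _ => exact chkChainW2
  | 3, _ => exact chkChainW3
  | 4, _ => exact chkChainW4
  | 5, _ => exact chkChainW5
  | 6, _ => exact chkChainW6
  | 7, _ => exact chkChainW7
  | k + 8, hk => exact absurd hk (by show ¬ (k + 8 < 8); omega)

theorem chkN : ∀ i < chevE8.rank, tab.chkN chevE8 i = true := by
  intro i hi
  match i, hi with
  | 0, _ => exact chkN0
  | 1, _ => exact chkN1
  | 2, _ => exact chkN2
  | 3, _ => exact chkN3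
  | 4, _ => exact chkN4
  | 5, _ => exact chkN5
  | 6, _ => exact chkN6
  | 7, _ => exact chkN7
  | k + 8, hk => exact absurd hk (by show ¬ (k + 8 < 8); omega)

/-- the certificate -/
def cert : Cert chevE8 :=
  Tab.toCert (T := tab) (by show 240 ≤ 256; omega) chkRows chkRoots chkSimple chkPos chkW chkChainW chkN
    chkAdd chkComm chkThird

end Cfsg.Agent.Chevalley.E8
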