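/-
Checked auxiliary tables for the Chevalley datum of type F4.
-/
import Cfsg.Agent.Chevalley.Check
import Cfsg.Prelude.Def_ChevF4

set_option autoImplicit false
set_option maxRecDepth 100000

namespace Cfsg.Agent.Chevalley.F4

open Cfsg.Lie

def tab : Tab where
  cfP := 0x8283848281838482818284828182838281828282818182828081828281828381818282818181828180818281818181818081818180808181808080818182828081818280808182808181818080818180808081808181808080818080818080807f808080807f80807f7f808080807f80807f7f807f7f7f80807f7e807f7f7e807f7e7e808080807f80807f7f807f7f7f7f7f7f7f807f7e7f7f7f7e7f7f7e7e7f7f7e7d7f807f7e7e7f7f7e7e7f7e7e7e7f7e7d7e7f7e7c7e7f7d7c7e7e7d7c7e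
  codeP := 0x80000000000840c280000000000840c180000000000840818000000000083081800000000008208180000000000820418000000000082040800000000004308180000000000420818000000000042041800000000004204080000000000410418000000000041040800000000004100080000000000400008000000000002081800000000000204180000000000020408000000000001041800000000000104080000000000010008000000000000041800000000000004080000000000000017fffffffffffffff7fffffffffffffc07fffffffffffffbf7ffffffffffff0007fffffffffffefc07fffffffffffefbf7fffffffffffdfc07fffffffffffdfbf7fffffffffffdf7f7ffffffffffc00007ffffffffffbf0007ffffffffffbefc07ffffffffffbefbf7ffffffffffbdfc07ffffffffffbdfbf7ffffffffffbdf7f7ffffffffffbcf7f7ffffffffff7dfc07ffffffffff7dfbf7ffffffffff7df7f7ffffffffff7cf7f7ffffffffff7bf7f7ffffffffff7bf3f7ffffffffff7bf3e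
  wP := [0x2f2e2d28201f1e2c2726251d1c1b0e2b2a292423221a19181716150d0c0b060504211413120a09080311100f07020100,
    0x2f2e2b2c2d2a292728242326252122201a191d1c141f1e181711101b131216150f0d0e0a090c0b070806050203040100,
    0x2f2d2e2c2a2b2928262725242223211f201e1d1b1c18161a151917131412110f100e0c0d0b0a08090706040503010200,
    0x2e2f2d2c2b292a2827252623242221201e1f1c1d1b191a1718151614121310110f0e0d0b0c090a080705060403020001]
  negP := [0x1ee3f81fc778, 0x1164fe7f2688, 0x488913c89112, 0x8450a5a50a21]

theorem chkRows : tab.chkRows chevF4 = true := by decide +kernel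

theorem chkRoots : tab.chkRoots chevF4 = true := by decide +kernel

theorem chkSimple : tab.chkSimple chevF4 = true := by decide +kernel

theorem chkPos : tab.chkPos chevF4 = true := by decide +kernel

theorem chkThird : Tab.chkThird chevF4 = true := by decide +kernel

theorem chkAdd : tab.chkAdd chevF4 = true := by decide +kernel

theorem chkComm : tab.chkComm chevF4 = true := by decide +kernel

theorem chkW0 : tab.chkW chevF4 0 = true := by decide +kernel

theorem chkChainW0 : tab.chkChainW chevF4 0 = true := by decide +kernel

theorem chkN0 : tab.chkN chevF4 0 = true := by decide +kernel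

theorem chkW1 : tab.chkW chevF4 1 = true := by decide +kernel

theorem chkChainW1 : tab.chkChainW chevF4 1 = true := by decide +kernel

theorem chkN1 : tab.chkN chevF4 1 = true := by decide +kernel

theorem chkW2 : tab.chkW chevF4 2 = true := by decide +kernel

theorem chkChainW2 : tab.chkChainW chevF4 2 = true := by decide +kernel

theorem chkN2 : tab.chkN chevF4 2 = true := by decide +kernel

theorem chkW3 : tab.chkW chevF4 3 = true := by decide +kernel

theorem chkChainW3 : tab.chkChainW chevF4 3 = true := by decide +kernel

theorem chkN3 : tab.chkN chevF4 3 = true := by decide +kernel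

theorem chkW : ∀ i < chevF4.rank, tab.chkW chevF4 i = true := by
  intro i hi
  match i, hi with
  | 0, _ => exact chkW0
  | 1, _ => exact chkW1
  | 2, _ => exact chkW2
  | 3, _ => exact chkW3
  | k + 4, hk => exact absurd hk (by show ¬ (k + 4 < 4); omega)

theorem chkChainW : ∀ i < chevF4.rank, tab.chkChainW chevF4 i = true := by
  intro i hi
  match i, hi with
  | 0, _ => exact chkChainW0
  | 1, _ => exact chkChainW1
  | 2, _ => exact chkChainW2
  | 3, _ => exact chkChainW3
  | k + 4, hk => exact absurd hk (by show ¬ (k + 4 < 4); omega)

theorem chkN : ∀ i < chevF4.rank, tab.chkN chevF4 i = true := by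
  intro i hi
  match i, hi with
  | 0, _ => exact chkN0
  | 1, _ => exact chkN1
  | 2, _ => exact chkN2
  | 3, _ => exact chkN3
  | k + 4, hk => exact absurd hk (by show ¬ (k + 4 < 4); omega)

/-- the certificate -/
def cert : Cert chevF4 :=
  Tab.toCert (T := tab) (by show 48 ≤ 256; omega) chkRows chkRoots chkSimple chkPos chkW chkChainW chkN
    chkAdd chkComm chkThird

end Cfsg.Agent.Chevalley.F4
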