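/-
The defining relations of a Chevalley group: additivity, conjugation by the monomial elements
of the fundamental roots, and Chevalley's commutator formula.
-/
import Cfsg.Agent.Chevalley.Cert

set_option autoImplicit false

namespace Cfsg.Agent.Chevalley

open Cfsg.Lie Cfsg.Lie.ChevalleyDatum
open scoped Matrix

theorem horner_add (L : List ℕ) (f g : ℕ → ℤ) (a b : ℤ) :
    horner (L.map fun i => a * f i + b * g i) = a * horner (L.map f) + b * horner (L.map g) := by
  have key : ∀ (L : List ℕ) (A B : ℤ),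
      (L.map fun i => a * f i + b * g i).foldl (fun x y => x * 64 + y) (a * A + b * B) =
        a * (L.map f).foldl (fun x y => x * 64 + y) A +
          b * (L.map g).foldl (fun x y => x * 64 + y) B := by
    intro L
    induction L with
    | nil => intros; rfl
    | cons i L ih =>
      intro A B
      simp only [List.map_cons, List.foldl_cons]
      rw [← ih]
      congr 1
      ring
  simpa [horner] using key L 0 0

theorem list_sum_range_map {M : Type*} [AddCommMonoid M] (n : ℕ) (f : ℕ → M) :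
    ((List.range n).map f).sum = ∑ i ∈ Finset.range n, f i := by
  rfl

namespace Cert

variable {D : ChevalleyDatum} (C : Cert D)
include C

theorem neg_lt {r : ℕ} (hr : r < D.nroots) : D.neg r < D.nroots := by rw [C.neg_eq r hr]; omega

theorem neg_neg {r : ℕ} (hr : r < D.nroots) : D.neg (D.neg r) = r := by
  rw [C.neg_eq _ (C.neg_lt hr), C.neg_eq r hr]; omega

theorem neg_ne {r : ℕ} (hr : r < D.nroots) : D.neg r ≠ r := by
  have := C.two_half
  rw [C.neg_eq r hr]; omega

theorem rowOK {r : ℕ} (hr : r < D.nroots) : RowOK D r where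
  nodup := C.keys_nodup r hr
  len s := by
    unfold chainEntry
    cases hf : (D.chain.getD r #[]).toList.find? (fun e => decide (e.1 = s)) with
    | none => simp
    | some e => exact (C.entry_lt r e (List.mem_of_find?_eq_some hf)).2.2.2.1
  key e he := ⟨(C.entry_lt r e he).2.1, (C.entry_lt r e he).2.2.1⟩

theorem targetsOK : TargetsOK D := fun r s p hp => by
  unfold chainEntry at hp
  cases hf : (D.chain.getD r #[]).toList.find? (fun e => decide (e.1 = s)) with
  | none => rw [hf] at hp; simp at hp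
  | some e =>
    rw [hf] at hp
    exact (C.entry_lt r e (List.mem_of_find?_eq_some hf)).2.2.2.2 p hp

theorem chainRoot_lt {r s k u : ℕ} (h : D.chainRoot r s k = some u) : u < D.nroots := by
  unfold chainRoot at h
  simp only [Option.map_eq_some_iff] at h
  obtain ⟨p, hp, rfl⟩ := h
  exact C.targetsOK r s p (List.mem_of_getElem? hp)

theorem chainRoot_arg_lt {r s k u : ℕ} (h : D.chainRoot r s k = some u) :
    r < D.nroots ∧ s < D.nroots := by
  unfold chainRoot at h
  simp only [Option.map_eq_some_iff] at h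
  obtain ⟨p, hp, -⟩ := h
  have hp' := List.mem_of_getElem? hp
  unfold chainEntry at hp'
  cases hf : (D.chain.getD r #[]).toList.find? (fun e => decide (e.1 = s)) with
  | none => rw [hf] at hp'; simp at hp'
  | some e =>
    have he := List.mem_of_find?_eq_some hf
    have hs : e.1 = s := by simpa using List.find?_some hf
    refine ⟨?_, hs ▸ (C.entry_lt r e he).1⟩
    by_contra hr
    rw [C.chain_size r (by omega)] at he
    simp at he

theorem x_eq {F : Type*} [Field F] {r : ℕ} (hr : r < D.nroots) (t : F) :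
    D.x F r t = xR D F r t := (C.rowOK hr).x_eq hr (C.neg_ne hr) t

theorem code_mono {r s : ℕ} (h : r < s) (hs : s < D.nroots) : C.code r < C.code s := by
  induction s with
  | zero => omega
  | succ s ih =>
    rcases Nat.lt_or_ge r s with h' | h'
    · exact lt_trans (ih h' (by omega)) (C.code_lt s hs)
    · rw [show r = s by omega]; exact C.code_lt s hs

theorem code_lin {u r s : ℕ} {a b : ℤ} (hu : u < D.nroots) (hr : r < D.nroots) (hs : s < D.nroots)
    (h : ∀ i < D.rank, C.cf u i = a * C.cf r i + b * C.cf s i) :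
    C.code u = a * C.code r + b * C.code s := by
  rw [C.code_eq u hu, C.code_eq r hr, C.code_eq s hs, ← horner_add]
  congr 1
  exact List.map_congr_left fun i hi => h i (List.mem_range.1 hi)

theorem eq_of_code {r s : ℕ} (hr : r < D.nroots) (hs : s < D.nroots) (h : C.code r = C.code s) :
    r = s := by
  rcases Nat.lt_trichotomy r s with h' | h' | h'
  · exact absurd h (ne_of_lt (C.code_mono h' hs))
  · exact h'
  · exact absurd h.symm (ne_of_lt (C.code_mono h' hr))

theorem eq_of_cf {r s : ℕ} (hr : r < D.nroots) (hs : s < D.nroots)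
    (h : ∀ i < D.rank, C.cf r i = C.cf s i) : r = s := by
  refine C.eq_of_code hr hs ?_
  rw [C.code_eq r hr, C.code_eq s hs]
  congr 1
  exact List.map_congr_left fun i hi => h i (List.mem_range.1 hi)

theorem w_inj {i r s : ℕ} (hi : i < D.rank) (hr : r < D.nroots) (hs : s < D.nroots)
    (h : C.w i r = C.w i s) : r = s := by
  rw [← (C.w_lt i hi r hr).2, h, (C.w_lt i hi s hs).2]

theorem w_neg {i r : ℕ} (hi : i < D.rank) (hr : r < D.nroots) :
    C.w i (D.neg r) = D.neg (C.w i r) := by
  have h1 := (C.w_lt i hi r hr).1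
  have h2 := (C.w_lt i hi _ (C.neg_lt hr)).1
  refine C.eq_of_cf h2 (C.neg_lt h1) fun j hj => ?_
  have hc : D.cartan i (D.neg r) = -D.cartan i r := by
    rw [C.cartan_lin i hi _ (C.neg_lt hr), C.cartan_lin i hi r hr, list_sum_range_map,
      list_sum_range_map, ← Finset.sum_neg_distrib]
    refine Finset.sum_congr rfl fun m hm => ?_
    rw [C.cf_neg r hr m (Finset.mem_range.1 hm), neg_mul]
  rw [C.cf_w i hi _ (C.neg_lt hr) j hj, C.cf_neg r hr j hj, C.cf_neg _ h1 j hj,
    C.cf_w i hi r hr j hj, hc]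
  split <;> ring

theorem cartan_w_self {i r : ℕ} (hi : i < D.rank) (hr : r < D.nroots) :
    D.cartan i (C.w i r) = -D.cartan i r := by
  have h := C.cf_w i hi (C.w i r) (C.w_lt i hi r hr).1 i hi
  rw [(C.w_lt i hi r hr).2, C.cf_w i hi r hr i hi, if_pos rfl, if_pos rfl] at h
  omega

theorem cartan_w {i j r : ℕ} (hi : i < D.rank) (hj : j < D.rank) (hr : r < D.nroots) :
    D.cartan j (C.w i r) = D.cartan j r - D.cartan i r * D.cartan j (D.simple i) := by
  rw [C.cartan_lin j hj _ (C.w_lt i hi r hr).1, C.cartan_lin j hj r hr, list_sum_range_map,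
    list_sum_range_map,
    Finset.sum_congr rfl (g := fun m =>
      C.cf r m * D.cartan j (D.simple m) -
        if m = i then D.cartan i r * D.cartan j (D.simple i) else 0)
      (fun m hm => by
        rw [C.cf_w i hi r hr m (Finset.mem_range.1 hm)]
        split
        · next h => subst h; ring
        · ring),
    Finset.sum_sub_distrib, Finset.sum_ite_eq', if_pos (Finset.mem_range.2 hi)]

theorem chainRoot_w {i r s : ℕ} (hi : i < D.rank) (hr : r < D.nroots) (hs : s < D.nroots)
    (k : ℕ) : D.chainRoot (C.w i r) (C.w i s) k = (D.chainRoot r s k).map (C.w i) := by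
  unfold chainRoot
  rw [C.chain_w i hi r hr s hs]
  simp [trEntry, Option.map_map, Function.comp_def]

theorem chainM_w {i r s u : ℕ} (hi : i < D.rank) (hr : r < D.nroots) (hs : s < D.nroots)
    {k : ℕ} (hk : 0 < k) (hu : D.chainRoot r s k = some u) :
    D.chainM (C.w i r) (C.w i s) k = C.sg i u * C.sg i r ^ k * C.sg i s * D.chainM r s k := by
  unfold chainRoot at hu
  simp only [Option.map_eq_some_iff] at hu
  obtain ⟨p, hp, rfl⟩ := hu
  unfold chainM
  rw [C.chain_w i hi r hr s hs]
  simp [trEntry, hp, Nat.sub_add_cancel hk]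

theorem chainM_eq_zero {r s k : ℕ} (h : D.chainRoot r s k = none) : D.chainM r s k = 0 := by
  unfold chainRoot at h
  simp only [Option.map_eq_none_iff] at h
  simp [chainM, h]

theorem sg_sq (i r : ℕ) : C.sg i r * C.sg i r = 1 := by
  rcases C.sg_pm i r with h | h <;> simp [h]

theorem sg_neg {i r : ℕ} (hi : i < D.rank) (hr : r < D.nroots) :
    C.sg i (D.neg r) = C.sg i r := by
  have h := (C.sg_rel i hi r hr).1
  rcases C.sg_pm i r with e | e <;> rcases C.sg_pm i (D.neg r) with f | f <;> simp [e, f] at h ⊢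

/-! ### homogeneity -/

/-- coefficient vector of a coordinate -/
def cfI (x : D.Idx) (i : ℕ) : ℤ := Sum.elim (fun _ => (0 : ℤ)) (fun s : Fin D.nroots => C.cf s i) x

omit C in
@[simp] theorem cfI_inl (C : Cert D) (a : Fin D.rank) (i : ℕ) : C.cfI (.inl a) i = 0 := rfl
omit C in
@[simp] theorem cfI_inr (C : Cert D) (s : Fin D.nroots) (i : ℕ) :
    C.cfI (.inr s) i = C.cf s i := rfl

theorem aMat_homog {r : ℕ} (hr : r < D.nroots) (k : ℕ) (row col : D.Idx)
    (h : aMat D r k row col ≠ 0) :
    ∀ i < D.rank, C.cfI row i = k * C.cf r i + C.cfI col i := by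
  intro i hi
  match row, col with
  | .inl a, .inl b =>
    simp [entII] at h
    simp [h.1]
  | .inr u, .inl b =>
    simp [entUI] at h
    simp [h.1, h.2.1]
  | .inl a, .inr s =>
    simp [entIS] at h
    simp [h.1, h.2.1, C.cf_neg r hr i hi]
  | .inr u, .inr s =>
    simp only [cfI_inr]
    simp only [aMat_rr, entUS] at h
    rcases Nat.eq_zero_or_pos k with rfl | hk
    · by_cases hu : (u : ℕ) = s
      · simp [hu]
      · simp [hu] at h
    · rw [if_neg (by omega)] at h
      by_cases h1 : k = 2 ∧ (s : ℕ) = D.neg r ∧ (u : ℕ) = r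
      · rw [h1.2.1, h1.2.2, h1.1, C.cf_neg r hr i hi]
        push_cast
        ring
      · rw [if_neg h1, zero_add] at h
        by_cases h2 : D.chainRoot r s k = some (u : ℕ)
        · obtain ⟨k', rfl⟩ : ∃ k', k = k' + 1 := ⟨k - 1, by omega⟩
          rw [C.entry_cf r hr s k' u h2 i hi]
          push_cast
          ring
        · rw [if_neg h2] at h; exact absurd rfl h

theorem chainRoot_cf {r s k u : ℕ} (hk : 0 < k) (h : D.chainRoot r s k = some u) :
    ∀ i < D.rank, C.cf u i = (k : ℤ) * C.cf r i + C.cf s i := by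
  intro i hi
  obtain ⟨k', rfl⟩ : ∃ k', k = k' + 1 := ⟨k - 1, by omega⟩
  rw [C.entry_cf r (C.chainRoot_arg_lt h).1 s k' u h i hi]
  push_cast
  rfl

theorem aMat_zero (r : ℕ) : aMat D r 0 = 1 := by
  ext row col
  rcases row with a | u <;> rcases col with b | s <;>
    simp [entII, entUI, entIS, entUS, Matrix.one_apply, Fin.ext_iff]

theorem xR_zero (R : Type*) [CommRing R] (r : ℕ) : xR D R r 0 = 1 := by
  ext row col
  simp [xR, Finset.sum_range_succ, C.aMat_zero, Matrix.one_apply,
    apply_ite (Int.cast : ℤ → R)]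

/-! ### the monomial matrices of the fundamental reflections -/

/-- the integer matrix of `n_i` -/
def nMatZ (i : ℕ) : Matrix D.Idx D.Idx ℤ := Matrix.of fun row col =>
  Sum.elim
    (fun a : Fin D.rank => Sum.elim
      (fun b : Fin D.rank => (if a = b then (1 : ℤ) else 0) -
        (if (a : ℕ) = i then D.cartan b (D.simple i) else 0))
      (fun _ => 0) col)
    (fun u : Fin D.nroots => Sum.elim (fun _ => 0)
      (fun s : Fin D.nroots => if (u : ℕ) = C.w i s then C.sg i s else 0) col)
    row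

omit C in
@[simp] theorem nMatZ_ll (C : Cert D) (i : ℕ) (a b : Fin D.rank) :
    C.nMatZ i (.inl a) (.inl b) =
      (if a = b then (1 : ℤ) else 0) - (if (a : ℕ) = i then D.cartan b (D.simple i) else 0) := rfl
omit C in
@[simp] theorem nMatZ_lr (C : Cert D) (i : ℕ) (a : Fin D.rank) (s : Fin D.nroots) :
    C.nMatZ i (.inl a) (.inr s) = 0 := rfl
omit C in
@[simp] theorem nMatZ_rl (C : Cert D) (i : ℕ) (u : Fin D.nroots) (b : Fin D.rank) :
    C.nMatZ i (.inr u) (.inl b) = 0 := rfl
omit C in
@[simp] theorem nMatZ_rr (C : Cert D) (i : ℕ) (u s : Fin D.nroots) :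
    C.nMatZ i (.inr u) (.inr s) = if (u : ℕ) = C.w i s then C.sg i s else 0 := rfl

/-- the matrix of `n_i` over a commutative ring -/
def nR (R : Type*) [CommRing R] (i : ℕ) : Matrix D.Idx D.Idx R :=
  (C.nMatZ i).map (Int.cast : ℤ → R)

theorem nR_eq_word (R : Type*) [CommRing R] {i : ℕ} (hi : i < D.rank) :
    C.nR R i = wordR D R [(D.simple i, 1), (D.neg (D.simple i), -1), (D.simple i, 1)] := by
  have hp := (C.simple_lt i hi).1
  have hw : ∀ p ∈ nWordZ D (D.simple i), p.1 < D.nroots := by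
    simp [nWordZ, hp, C.neg_lt hp]
  have hZ : wordR D ℤ (nWordZ D (D.simple i)) = C.nMatZ i := by
    ext row col
    rw [wordR_eq_get C.targetsOK _ hw,
      get_eq_of_sameVec (C.n_word i hi _ (idxNat_lt col))]
    rcases row with a | u <;> rcases col with b | s
    · simp only [nCol, idxNat, b.isLt, if_true, get_cons, get_nil, nMatZ_ll, add_zero]
      simp [Fin.ext_iff, eq_comm, sub_eq_add_neg, apply_ite (Neg.neg : ℤ → ℤ)]
    · have : ¬ D.rank + C.w i s = (a : ℕ) := by omega
      simp [nCol, idxNat, get_cons, this]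
    · have : ¬ (b : ℕ) = D.rank + u := by omega
      have : ¬ i = D.rank + u := by omega
      simp [nCol, idxNat, get_cons, *]
    · simp [nCol, idxNat, get_cons, eq_comm]
  rw [nR, ← hZ]
  simpa [nWordZ] using wordR_map D (Int.castRingHom R) (nWordZ D (D.simple i))

theorem mul_nMatZ_inl (X : Matrix D.Idx D.Idx ℤ) {i : ℕ} (hi : i < D.rank) (row : D.Idx)
    (b : Fin D.rank) : (X * C.nMatZ i) row (.inl b) =
      X row (.inl b) - X row (.inl ⟨i, hi⟩) * D.cartan b (D.simple i) := by
  rw [Matrix.mul_apply, Fintype.sum_sum_type]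
  simp only [nMatZ_ll, nMatZ_rl, mul_zero, Finset.sum_const_zero, add_zero, mul_sub,
    Finset.sum_sub_distrib, mul_ite, mul_one]
  rw [Finset.sum_eq_single b, Finset.sum_eq_single (⟨i, hi⟩ : Fin D.rank)]
  · simp
  · intro c _ hc
    rw [if_neg fun h => hc (Fin.ext h)]
  · simp
  · intro c _ hc
    simp [hc]
  · simp

theorem mul_nMatZ_inr (X : Matrix D.Idx D.Idx ℤ) {i : ℕ} (hi : i < D.rank) (row : D.Idx)
    (s : Fin D.nroots) : (X * C.nMatZ i) row (.inr s) =
      C.sg i s * X row (.inr ⟨C.w i s, (C.w_lt i hi s s.isLt).1⟩) := by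
  rw [Matrix.mul_apply, Fintype.sum_sum_type]
  simp only [nMatZ_lr, mul_zero, Finset.sum_const_zero, zero_add, nMatZ_rr, mul_ite]
  rw [Finset.sum_eq_single (⟨C.w i s, (C.w_lt i hi s s.isLt).1⟩ : Fin D.nroots)]
  · simp [mul_comm]
  · intro b _ hb
    rw [if_neg (fun h => hb (Fin.ext h))]
  · simp

theorem nMatZ_mul_inl (X : Matrix D.Idx D.Idx ℤ) (i : ℕ) (a : Fin D.rank) (col : D.Idx) :
    (C.nMatZ i * X) (.inl a) col = X (.inl a) col -
      if (a : ℕ) = i then ∑ m : Fin D.rank, D.cartan m (D.simple i) * X (.inl m) col else 0 := by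
  rw [Matrix.mul_apply, Fintype.sum_sum_type]
  by_cases h : (a : ℕ) = i <;> simp [h, sub_mul, Finset.sum_sub_distrib]

theorem nMatZ_mul_inr (X : Matrix D.Idx D.Idx ℤ) {i : ℕ} (hi : i < D.rank) (u : Fin D.nroots)
    (col : D.Idx) : (C.nMatZ i * X) (.inr u) col =
      C.sg i (C.w i u) * X (.inr ⟨C.w i u, (C.w_lt i hi u u.isLt).1⟩) col := by
  rw [Matrix.mul_apply, Fintype.sum_sum_type]
  simp only [nMatZ_rl, zero_mul, Finset.sum_const_zero, zero_add, nMatZ_rr, ite_mul]
  rw [Finset.sum_eq_single (⟨C.w i u, (C.w_lt i hi u u.isLt).1⟩ : Fin D.nroots)]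
  · simp [(C.w_lt i hi u u.isLt).2]
  · intro b _ hb
    rw [if_neg]
    intro h
    refine hb (Fin.ext ?_)
    have e := congrArg (C.w i) h
    rw [(C.w_lt i hi b b.isLt).2] at e
    exact e.symm
  · simp

theorem nMatZ_conj {i r : ℕ} (hi : i < D.rank) (hr : r < D.nroots) (k : ℕ) :
    C.nMatZ i * aMat D r k = C.sg i r ^ k • (aMat D (C.w i r) k * C.nMatZ i) := by
  rcases Nat.eq_zero_or_pos k with rfl | hk
  · simp [C.aMat_zero]
  have hwr := (C.w_lt i hi r hr).1
  ext row col
  rw [Matrix.smul_apply, smul_eq_mul]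
  rcases row with a | u <;> rcases col with b | s
  · rw [C.nMatZ_mul_inl, C.mul_nMatZ_inl _ hi]
    simp [entII, Nat.pos_iff_ne_zero.1 hk]
  · rw [C.nMatZ_mul_inl, C.mul_nMatZ_inr _ hi]
    simp only [aMat_lr, entIS]
    have hiff : C.w i s = D.neg (C.w i r) ↔ (s : ℕ) = D.neg r := by
      rw [← C.w_neg hi hr]
      exact ⟨C.w_inj hi s.isLt (C.neg_lt hr), fun h => h ▸ rfl⟩
    by_cases h1 : k = 1 ∧ (s : ℕ) = D.neg r
    · obtain ⟨rfl, hs⟩ := h1
      simp only [hs, hiff.2 hs, and_self, if_true, pow_one, C.sg_neg hi hr,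
        ← C.w_neg hi hr]
      rw [← mul_assoc, C.sg_sq, one_mul, C.cor_w i hi r hr a a.isLt]
      by_cases ha : (a : ℕ) = i
      · rw [if_pos ha, if_pos ha, list_sum_range_map,
          Fin.sum_univ_eq_sum_range (fun m => D.cartan m (D.simple i) * cor D r m)]
        congr 1
        exact Finset.sum_congr rfl fun m _ => mul_comm _ _
      · rw [if_neg ha, if_neg ha]
    · have h2 : ¬ (k = 1 ∧ C.w i s = D.neg (C.w i r)) := fun h => h1 ⟨h.1, hiff.1 h.2⟩
      simp [h1, h2]
  · rw [C.nMatZ_mul_inr _ hi, C.mul_nMatZ_inl _ hi]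
    simp only [aMat_rl, entUI]
    have hiff : C.w i u = r ↔ (u : ℕ) = C.w i r :=
      ⟨fun h => by rw [← h, (C.w_lt i hi u u.isLt).2],
        fun h => by rw [h, (C.w_lt i hi r hr).2]⟩
    by_cases h1 : k = 1 ∧ C.w i u = r
    · obtain ⟨rfl, hu⟩ := h1
      have e := hiff.1 hu
      simp only [hu, e, and_self, if_true, pow_one, (C.w_lt i hi r hr).2]
      rw [C.cartan_w hi b.isLt hr, C.cartan_w_self hi hr]
      ring
    · have h2 : ¬ (k = 1 ∧ (u : ℕ) = C.w i r) := fun h => h1 ⟨h.1, hiff.2 h.2⟩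
      simp [h1, h2]
  · rw [C.nMatZ_mul_inr _ hi, C.mul_nMatZ_inr _ hi]
    simp only [aMat_rr, entUS, Nat.pos_iff_ne_zero.1 hk, if_false]
    have hu : C.w i u = r ↔ (u : ℕ) = C.w i r :=
      ⟨fun h => by rw [← h, (C.w_lt i hi u u.isLt).2],
        fun h => by rw [h, (C.w_lt i hi r hr).2]⟩
    have hs : C.w i s = D.neg (C.w i r) ↔ (s : ℕ) = D.neg r := by
      rw [← C.w_neg hi hr]
      exact ⟨C.w_inj hi s.isLt (C.neg_lt hr), fun h => h ▸ rfl⟩
    rw [mul_add, mul_add, mul_add]
    congr 1
    · by_cases h1 : k = 2 ∧ (s : ℕ) = D.neg r ∧ C.w i u = r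
      · obtain ⟨rfl, e1, e2⟩ := h1
        simp only [e1, hu.1 e2, hs.2 e1, e2, and_self, if_true, C.sg_neg hi hr,
          ← C.w_neg hi hr, (C.w_lt i hi r hr).2]
        linear_combination (C.sg i r) * C.sg_sq i r
      · have h2 : ¬ (k = 2 ∧ C.w i s = D.neg (C.w i r) ∧ (u : ℕ) = C.w i r) :=
          fun h => h1 ⟨h.1, hs.1 h.2.1, hu.2 h.2.2⟩
        simp [h1, h2]
    · by_cases h1 : D.chainRoot r s k = some (C.w i u)
      · have h2 : D.chainRoot (C.w i r) (C.w i s) k = some (u : ℕ) := by
          rw [C.chainRoot_w hi hr s.isLt, h1]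
          simp [(C.w_lt i hi u u.isLt).2]
        rw [if_pos h1, if_pos h2, C.chainM_w hi hr s.isLt hk h1]
        have e : (C.sg i r ^ k) * (C.sg i r ^ k) = 1 := by rw [← mul_pow, C.sg_sq, one_pow]
        linear_combination (-(C.sg i (C.w i u) * D.chainM r s k)) * (C.sg_sq i s) -
          (C.sg i (C.w i u) * D.chainM r s k * C.sg i s * C.sg i s) * e
      · have h2 : D.chainRoot (C.w i r) (C.w i s) k ≠ some (u : ℕ) := by
          rw [C.chainRoot_w hi hr s.isLt]
          intro h
          simp only [Option.map_eq_some_iff] at h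
          obtain ⟨v, hv, hvu⟩ := h
          apply h1
          rw [hv, ← hvu, (C.w_lt i hi v (C.chainRoot_lt hv)).2]
        simp [h1, h2]

theorem nR_mul_xR (R : Type*) [CommRing R] {i r : ℕ} (hi : i < D.rank) (hr : r < D.nroots)
    (t : R) : C.nR R i * xR D R r t = xR D R (C.w i r) ((C.sg i r : R) * t) * C.nR R i := by
  rw [xR_eq_sum, xR_eq_sum, Finset.mul_sum, Finset.sum_mul]
  refine Finset.sum_congr rfl fun k _ => ?_
  have h : ((C.nMatZ i * aMat D r k).map (Int.cast : ℤ → R)) =
      (C.sg i r ^ k • (aMat D (C.w i r) k * C.nMatZ i)).map (Int.cast : ℤ → R) := by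
    rw [C.nMatZ_conj hi hr k]
  rw [Matrix.mul_smul, Matrix.smul_mul]
  show t ^ k • ((C.nMatZ i).map (Int.castRingHom R) * (aMat D r k).map (Int.castRingHom R)) =
    ((C.sg i r : R) * t) ^ k •
      ((aMat D (C.w i r) k).map (Int.castRingHom R) * (C.nMatZ i).map (Int.castRingHom R))
  rw [← Matrix.map_mul, ← Matrix.map_mul, Int.coe_castRingHom, h, mul_pow, mul_comm _ (t ^ k),
    ← smul_smul]
  congr 1
  ext a b
  simp [Matrix.smul_apply, -zsmul_eq_mul, smul_eq_mul]

theorem nMatZ_sq {i : ℕ} (hi : i < D.rank) :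
    C.nMatZ i * C.nMatZ i = Matrix.diagonal
      (Sum.elim (fun _ => (1 : ℤ)) fun s : Fin D.nroots => (-1) ^ (D.cartan i s).natAbs) := by
  ext row col
  rcases row with a | u <;> rcases col with b | s
  · rw [C.mul_nMatZ_inl _ hi]
    simp only [nMatZ_ll, Fin.ext_iff, Matrix.diagonal_apply, Sum.inl.injEq, Sum.elim_inl]
    by_cases h1 : (a : ℕ) = b <;> by_cases h2 : (a : ℕ) = i <;>
      simp [h1, h2, C.cartan_self i hi] <;> (try subst h2) <;> (try omega) <;> (try simp_all) <;>
      ring
  · rw [C.mul_nMatZ_inr _ hi]; simp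
  · rw [C.mul_nMatZ_inl _ hi]; simp
  · rw [C.mul_nMatZ_inr _ hi]
    simp only [nMatZ_rr, (C.w_lt i hi s s.isLt).2, Matrix.diagonal_apply, Sum.inr.injEq,
      Sum.elim_inr, Fin.ext_iff]
    by_cases h : (u : ℕ) = s
    · rw [if_pos h, if_pos h, h, (C.sg_rel i hi s s.isLt).2]
    · simp [h]

theorem isUnit_nR (R : Type*) [CommRing R] {i : ℕ} (hi : i < D.rank) : IsUnit (C.nR R i) := by
  have h4 : C.nMatZ i * (C.nMatZ i * (C.nMatZ i * C.nMatZ i)) = 1 := by
    rw [← mul_assoc, C.nMatZ_sq hi, Matrix.diagonal_mul_diagonal, ← Matrix.diagonal_one]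
    congr 1
    funext x
    rcases x with a | s <;> simp [← mul_pow]
  have h := congrArg (fun X => X.map (Int.castRingHom R)) h4
  simp only [Matrix.map_mul, Matrix.map_one _ (map_zero _) (map_one _)] at h
  exact IsUnit.of_mul_eq_one _ h

/-! ### additivity -/

omit C in
theorem bounded_aCol (hT : TargetsOK D) {r : ℕ} (hr : r < D.nroots) {k : ℕ} (hk : k < 4) {j : ℕ}
    (hj : j < D.rank + D.nroots) : Bounded D (aCol D r k j) := by
  intro p hp
  exact bounded_xCol hT hr 1 hj (p.1, 1 ^ k * p.2)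
    (List.mem_flatMap.2 ⟨k, List.mem_range.2 hk, List.mem_map.2 ⟨p, hp, rfl⟩⟩)

theorem aMat_mul_top {r : ℕ} (hr : r < D.nroots) (htop : ∀ i < D.rank, ¬ r < C.w i r) {a b : ℕ}
    (ha : a < 4) (hb : b < 4) : aMat D r a * aMat D r b =
      if a + b < 4 then (Nat.choose (a + b) a : ℤ) • aMat D r (a + b) else 0 := by
  ext row col
  rw [mul_of_cols _ _ (aCol D r a) (aCol D r b (idxNat col)) col (aMat_eq_get r a)
    (bounded_aCol C.targetsOK hr hb (idxNat_lt col)) (fun x => aMat_eq_get r b x col) row]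
  rw [← aCol2, get_eq_of_sameVec (C.top_add r hr htop a ha b hb _ (idxNat_lt col))]
  split
  · rw [get_scale, Matrix.smul_apply, aMat_eq_get, smul_eq_mul]
  · rfl

theorem xR_add (R : Type*) [CommRing R] : ∀ {r : ℕ}, r < D.nroots → ∀ t u : R,
    xR D R r t * xR D R r u = xR D R r (t + u) := by
  suffices h : ∀ m r, D.nroots - r ≤ m → r < D.nroots → ∀ t u : R,
      xR D R r t * xR D R r u = xR D R r (t + u) from fun {r} hr => h _ r le_rfl hr
  intro m
  induction m with
  | zero => intro r h1 h2; omega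
  | succ m ih =>
    intro r hm hr
    by_cases htop : ∀ i < D.rank, ¬ r < C.w i r
    · intro t u
      have hA : ∀ a < 4, ∀ b < 4, (aMat D r a).map (Int.castRingHom R) *
          (aMat D r b).map (Int.castRingHom R) =
          if a + b < 4 then (Nat.choose (a + b) a : R) • (aMat D r (a + b)).map (Int.castRingHom R)
          else 0 := by
        intro a ha b hb
        rw [← Matrix.map_mul, C.aMat_mul_top hr htop ha hb]
        split <;> ext p q <;>
          simp [Matrix.smul_apply, -zsmul_eq_mul, -nsmul_eq_mul, smul_eq_mul]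
      simp only [xR_eq_sum, Finset.sum_range_succ, Finset.sum_range_zero, zero_add,
        ← Int.coe_castRingHom, mul_add, add_mul, Matrix.mul_smul, Matrix.smul_mul, smul_smul,
        hA 0 (by omega) 0 (by omega), hA 0 (by omega) 1 (by omega), hA 0 (by omega) 2 (by omega),
        hA 0 (by omega) 3 (by omega), hA 1 (by omega) 0 (by omega), hA 1 (by omega) 1 (by omega),
        hA 1 (by omega) 2 (by omega), hA 1 (by omega) 3 (by omega), hA 2 (by omega) 0 (by omega),
        hA 2 (by omega) 1 (by omega), hA 2 (by omega) 2 (by omega), hA 2 (by omega) 3 (by omega),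
        hA 3 (by omega) 0 (by omega), hA 3 (by omega) 1 (by omega), hA 3 (by omega) 2 (by omega),
        hA 3 (by omega) 3 (by omega)]
      norm_num [Nat.choose]
      ext p q
      simp only [Matrix.add_apply, Matrix.smul_apply, smul_eq_mul]
      ring
    · push_neg at htop
      obtain ⟨i, hi, hlt⟩ := htop
      have hw := C.w_lt i hi r hr
      intro t u
      have hP := ih (C.w i r) (by omega) hw.1 ((C.sg i r : R) * t) ((C.sg i r : R) * u)
      refine (C.isUnit_nR R hi).mul_left_cancel ?_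
      rw [← mul_assoc, C.nR_mul_xR R hi hr, mul_assoc, C.nR_mul_xR R hi hr, ← mul_assoc, hP,
        C.nR_mul_xR R hi hr, mul_add]

end Cert

end Cfsg.Agent.Chevalley
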