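/-
Chevalley's commutator formula.
-/
import Cfsg.Agent.Chevalley.Relations

set_option autoImplicit false

namespace Cfsg.Agent.Chevalley

open Cfsg.Lie Cfsg.Lie.ChevalleyDatum
open scoped Matrix

variable {D : ChevalleyDatum}

/-- the word on the right-hand side of the commutator formula, over any commutative ring -/
def commW (D : ChevalleyDatum) (R : Type*) [CommRing R] (r s : ℕ) (t u : R) : List (ℕ × R) :=
  (D.commTerms r s).map fun c => (c.1, (c.2.1 : R) * (-t) ^ c.2.2.1 * u ^ c.2.2.2)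

/-- the seven candidates of which `commTerms` keeps those whose root exists -/
def cands (D : ChevalleyDatum) (r s : ℕ) : List (Option ℕ × ℤ × ℕ × ℕ) :=
  let rs := D.chainRoot r s 1
  [ (D.chainRoot r s 1, D.chainM r s 1, 1, 1),
    (D.chainRoot r s 2, D.chainM r s 2, 2, 1),
    (D.chainRoot s r 2, D.chainM s r 2, 1, 2),
    (D.chainRoot r s 3, D.chainM r s 3, 3, 1),
    (D.chainRoot s r 3, - D.chainM s r 3, 1, 3),
    ((D.chainRoot r s 3).bind fun k => D.chainRoot k s 1,
      (rs.map fun k => D.chainM k r 2 / 3).getD 0, 3, 2),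
    ((D.chainRoot s r 3).bind fun k => D.chainRoot k r 1,
      (rs.map fun k => -2 * D.chainM k s 2 / 3).getD 0, 2, 3) ]

theorem commTerms_eq (D : ChevalleyDatum) (r s : ℕ) :
    D.commTerms r s = (cands D r s).filterMap fun c => c.1.map fun k => (k, c.2) := rfl

theorem mem_commTerms {r s : ℕ} {c : ℕ × ℤ × ℕ × ℕ} (h : c ∈ D.commTerms r s) :
    (some c.1, c.2) ∈ cands D r s := by
  rw [commTerms_eq, List.mem_filterMap] at h
  obtain ⟨a, ha, hac⟩ := h
  simp only [Option.map_eq_some_iff] at hac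
  obtain ⟨k, hk, rfl⟩ := hac
  rw [← hk]
  exact ha

namespace Cert

variable (C : Cert D)
include C

theorem bind_chain_cf {r s v : ℕ} (h : ((D.chainRoot r s 3).bind fun k => D.chainRoot k s 1) = some v) :
    ∃ k₃, D.chainRoot r s 3 = some k₃ ∧ D.chainRoot k₃ s 1 = some v ∧
      ∀ i < D.rank, C.cf v i = 3 * C.cf r i + 2 * C.cf s i := by
  rw [Option.bind_eq_some_iff] at h
  obtain ⟨k₃, h3, h1⟩ := h
  refine ⟨k₃, h3, h1, fun i hi => ?_⟩
  rw [C.chainRoot_cf (by omega) h1 i hi, C.chainRoot_cf (by omega) h3 i hi]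
  push_cast
  ring

theorem commTerms_cf {r s : ℕ} {c : ℕ × ℤ × ℕ × ℕ} (hc : c ∈ D.commTerms r s) :
    (c.1 < D.nroots ∧ 0 < c.2.2.1 ∧ 0 < c.2.2.2) ∧
    ∀ i < D.rank, C.cf c.1 i = (c.2.2.1 : ℤ) * C.cf r i + (c.2.2.2 : ℤ) * C.cf s i := by
  obtain ⟨k, m, a, b⟩ := c
  have h := mem_commTerms hc
  simp only [cands, List.mem_cons, List.not_mem_nil, or_false, Prod.mk.injEq] at h
  rcases h with ⟨h, -, rfl, rfl⟩ | ⟨h, -, rfl, rfl⟩ | ⟨h, -, rfl, rfl⟩ | ⟨h, -, rfl, rfl⟩ |
    ⟨h, -, rfl, rfl⟩ | ⟨h, -, rfl, rfl⟩ | ⟨h, -, rfl, rfl⟩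
  all_goals (first
    | (refine ⟨⟨C.chainRoot_lt h.symm, by norm_num, by norm_num⟩, fun i hi => ?_⟩
       rw [C.chainRoot_cf (by omega) h.symm i hi]
       push_cast
       ring)
    | (obtain ⟨k₃, -, h1, hcf⟩ := C.bind_chain_cf h.symm
       refine ⟨⟨C.chainRoot_lt h1, by norm_num, by norm_num⟩, fun i hi => ?_⟩
       rw [hcf i hi]
       push_cast
       ring))

/-- the transformation of a commutator term by a fundamental reflection -/
def trTerm (i r s : ℕ) (c : ℕ × ℤ × ℕ × ℕ) : ℕ × ℤ × ℕ × ℕ :=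
  (C.w i c.1, C.sg i c.1 * C.sg i r ^ c.2.2.1 * C.sg i s ^ c.2.2.2 * c.2.1, c.2.2)

theorem ediv_three {e x : ℤ} (h : (3 : ℤ) ∣ x) : e * x / 3 = e * (x / 3) := Int.mul_ediv_assoc e h

theorem sixth_w {i r s v : ℕ} (hi : i < D.rank) (hr : r < D.nroots) (hs : s < D.nroots)
    (h : ((D.chainRoot r s 3).bind fun k => D.chainRoot k s 1) = some v) :
    ((D.chainRoot (C.w i r) (C.w i s) 1).map fun k => D.chainM k (C.w i r) 2 / 3).getD 0 =
      C.sg i v * C.sg i r ^ 3 * C.sg i s ^ 2 *
        ((D.chainRoot r s 1).map fun k => D.chainM k r 2 / 3).getD 0 ∧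
    ((D.chainRoot (C.w i s) (C.w i r) 1).map fun k => -2 * D.chainM k (C.w i r) 2 / 3).getD 0 =
      C.sg i v * C.sg i r ^ 3 * C.sg i s ^ 2 *
        ((D.chainRoot s r 1).map fun k => -2 * D.chainM k r 2 / 3).getD 0 := by
  obtain ⟨k₃, h3, -, hcf⟩ := C.bind_chain_cf h
  obtain ⟨heq, hdvd⟩ := C.third r hr s hs (by simp [h3])
  rw [C.chainRoot_w hi hr hs, C.chainRoot_w hi hs hr, ← heq]
  cases h1 : D.chainRoot r s 1 with
  | none => simp
  | some k =>
    have hk := C.chainRoot_lt h1
    have hd := (hdvd k h1).1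
    have e : C.sg i r ^ 3 * C.sg i s ^ 2 = C.sg i r := by
      rcases C.sg_pm i r with a | a <;> rcases C.sg_pm i s with b | b <;> simp [a, b]
    simp only [Option.map_some, Option.getD_some]
    cases h2 : D.chainRoot k r 2 with
    | none =>
      have hw2 : D.chainRoot (C.w i k) (C.w i r) 2 = none := by
        rw [C.chainRoot_w hi hk hr, h2]; rfl
      simp [chainM_eq_zero C h2, chainM_eq_zero C hw2]
    | some v' =>
      have hv' : v' = v := by
        refine C.eq_of_cf (C.chainRoot_lt h2) ?_ fun j hj => ?_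
        · obtain ⟨_, _, h1', _⟩ := C.bind_chain_cf h
          exact C.chainRoot_lt h1'
        · rw [C.chainRoot_cf (by omega) h2 j hj, hcf j hj, C.chainRoot_cf (by omega) h1 j hj]
          push_cast
          ring
      rw [C.chainM_w hi hk hr (by omega) h2, hv', mul_assoc (C.sg i v) _ (C.sg i s ^ 2), e,
        show C.sg i k ^ 2 = 1 by rw [pow_two, C.sg_sq], mul_one]
      refine ⟨ediv_three C hd, ?_⟩
      rw [show -2 * (C.sg i v * C.sg i r * D.chainM k r 2) =
        C.sg i v * C.sg i r * (-2 * D.chainM k r 2) by ring]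
      exact ediv_three C (dvd_mul_of_dvd_right hd _)

theorem cands_w {i r s : ℕ} (hi : i < D.rank) (hr : r < D.nroots) (hs : s < D.nroots) :
    ((cands D (C.w i r) (C.w i s)).filterMap fun c => c.1.map fun k => (k, c.2)) =
      ((cands D r s).filterMap fun c => c.1.map fun k => (k, c.2)).map (C.trTerm i r s) := by
  rw [List.map_filterMap]
  simp only [cands]
  have key : ∀ (o o' : Option ℕ) (m m' : ℤ) (a b : ℕ), o' = o.map (C.w i) →
      (∀ v, o = some v → m' = C.sg i v * C.sg i r ^ a * C.sg i s ^ b * m) →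
      (o'.map fun k => (k, m', a, b)) =
        (o.map fun k => (k, m, a, b)).map (C.trTerm i r s) := by
    intro o o' m m' a b ho hm
    subst ho
    cases o with
    | none => rfl
    | some v => simp [trTerm, hm v rfl]
  have hone : ∀ e : ℤ, e = 1 ∨ e = -1 → e ^ 3 = e := by rintro e (rfl | rfl) <;> rfl
  iterate 7 rw [List.filterMap_cons, List.filterMap_cons]
  rw [key (D.chainRoot r s 1) _ (D.chainM r s 1) _ 1 1 (C.chainRoot_w hi hr hs 1)
      (fun v hv => by rw [C.chainM_w hi hr hs (by omega) hv, pow_one, pow_one]),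
    key (D.chainRoot r s 2) _ (D.chainM r s 2) _ 2 1 (C.chainRoot_w hi hr hs 2)
      (fun v hv => by rw [C.chainM_w hi hr hs (by omega) hv, pow_one]),
    key (D.chainRoot s r 2) _ (D.chainM s r 2) _ 1 2 (C.chainRoot_w hi hs hr 2)
      (fun v hv => by rw [C.chainM_w hi hs hr (by omega) hv]; ring),
    key (D.chainRoot r s 3) _ (D.chainM r s 3) _ 3 1 (C.chainRoot_w hi hr hs 3)
      (fun v hv => by rw [C.chainM_w hi hr hs (by omega) hv, pow_one]),
    key (D.chainRoot s r 3) _ (-D.chainM s r 3) _ 1 3 (C.chainRoot_w hi hs hr 3)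
      (fun v hv => by rw [C.chainM_w hi hs hr (by omega) hv]; ring)]
  · rw [key ((D.chainRoot r s 3).bind fun k => D.chainRoot k s 1) _
        (((D.chainRoot r s 1).map fun k => D.chainM k r 2 / 3).getD 0) _ 3 2 ?_
        (fun v hv => (C.sixth_w hi hr hs hv).1),
      key ((D.chainRoot s r 3).bind fun k => D.chainRoot k r 1) _
        (((D.chainRoot r s 1).map fun k => -2 * D.chainM k s 2 / 3).getD 0) _ 2 3 ?_ ?_]
    · rfl
    · rw [C.chainRoot_w hi hs hr]
      cases h : D.chainRoot s r 3 with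
      | none => rfl
      | some k => simpa using C.chainRoot_w hi (C.chainRoot_lt h) hr 1
    · intro v hv
      have h := (C.sixth_w hi hs hr hv).2
      rw [h]
      ring
    · rw [C.chainRoot_w hi hr hs]
      cases h : D.chainRoot r s 3 with
      | none => rfl
      | some k => simpa using C.chainRoot_w hi (C.chainRoot_lt h) hs 1

theorem commTerms_w {i r s : ℕ} (hi : i < D.rank) (hr : r < D.nroots) (hs : s < D.nroots) :
    D.commTerms (C.w i r) (C.w i s) = (D.commTerms r s).map (C.trTerm i r s) := by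
  rw [commTerms_eq, commTerms_eq]
  exact C.cands_w hi hr hs

theorem commW_w (R : Type*) [CommRing R] {i r s : ℕ} (hi : i < D.rank) (hr : r < D.nroots)
    (hs : s < D.nroots) (t u : R) :
    commW D R (C.w i r) (C.w i s) ((C.sg i r : R) * t) ((C.sg i s : R) * u) =
      (commW D R r s t u).map fun p => (C.w i p.1, (C.sg i p.1 : R) * p.2) := by
  simp only [commW, C.commTerms_w hi hr hs, List.map_map]
  refine List.map_congr_left fun c _ => ?_
  simp only [Function.comp_apply, trTerm, Prod.mk.injEq, true_and]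
  have e : ∀ (a n : ℕ), (C.sg i a : R) ^ n * (C.sg i a : R) ^ n = 1 := fun a n => by
    rw [← mul_pow, ← Int.cast_mul, C.sg_sq, Int.cast_one, one_pow]
  push_cast
  rw [show -((C.sg i r : R) * t) = (C.sg i r : R) * (-t) by ring, mul_pow, mul_pow]
  linear_combination
    ((C.sg i c.1 : R) * (c.2.1 : R) * (-t) ^ c.2.2.1 * u ^ c.2.2.2 *
      (C.sg i s : R) ^ c.2.2.2 * (C.sg i s : R) ^ c.2.2.2) * e r c.2.2.1 +
    ((C.sg i c.1 : R) * (c.2.1 : R) * (-t) ^ c.2.2.1 * u ^ c.2.2.2) * e s c.2.2.2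

theorem nR_mul_wordR (R : Type*) [CommRing R] {i : ℕ} (hi : i < D.rank) :
    ∀ (w : List (ℕ × R)), (∀ p ∈ w, p.1 < D.nroots) →
      C.nR R i * wordR D R w =
        wordR D R (w.map fun p => (C.w i p.1, (C.sg i p.1 : R) * p.2)) * C.nR R i
  | [], _ => by simp [wordR_nil]
  | p :: w, hw => by
    rw [wordR_cons, List.map_cons, wordR_cons, ← mul_assoc, C.nR_mul_xR R hi (hw p (by simp)),
      mul_assoc, nR_mul_wordR R hi w (fun q hq => hw q (by simp [hq])), ← mul_assoc]

/-! ### the formula at independent roots, from `t = u = 1` -/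

/-- `(a, b)` is the bidegree of the position `(row, col)` with respect to `(r, s)` -/
def Deg (r s a b : ℕ) (row col : D.Idx) : Prop :=
  ∀ i < D.rank, C.cfI row i = C.cfI col i + (a : ℤ) * C.cf r i + (b : ℤ) * C.cf s i

/-- `f` is bihomogeneous of integer coefficient matrix `M` -/
def Hom2 (R : Type*) [CommRing R] (r s : ℕ) (f : R → R → Matrix D.Idx D.Idx R)
    (M : Matrix D.Idx D.Idx ℤ) : Prop :=
  ∀ row col, (∀ a b, C.Deg r s a b row col → ∀ t u, f t u row col = (M row col : R) * t ^ a * u ^ b) ∧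
    ((∀ a b, ¬ C.Deg r s a b row col) → M row col = 0 ∧ ∀ t u, f t u row col = 0)

/-- the cross-product witness of independence -/
def Indep (r s : ℕ) : Prop :=
  ∃ i < D.rank, ∃ j < D.rank, C.cf r i * C.cf s j ≠ C.cf r j * C.cf s i

theorem deg_unique {r s : ℕ} (hind : C.Indep r s) {a b a' b' : ℕ} {row col : D.Idx}
    (h : C.Deg r s a b row col) (h' : C.Deg r s a' b' row col) : a = a' ∧ b = b' := by
  obtain ⟨i, hi, j, hj, hne⟩ := hind
  have e1 := h i hi
  have e2 := h j hj
  have f1 := h' i hi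
  have f2 := h' j hj
  have ha : ((a : ℤ) - a') * (C.cf r i * C.cf s j - C.cf r j * C.cf s i) = 0 := by
    linear_combination (C.cf s j) * (f1 - e1) - (C.cf s i) * (f2 - e2)
  have hb : ((b : ℤ) - b') * (C.cf r i * C.cf s j - C.cf r j * C.cf s i) = 0 := by
    linear_combination (C.cf r i) * (f2 - e2) - (C.cf r j) * (f1 - e1)
  have hd : C.cf r i * C.cf s j - C.cf r j * C.cf s i ≠ 0 := sub_ne_zero.2 hne
  rcases mul_eq_zero.1 ha with x | x
  · rcases mul_eq_zero.1 hb with y | y
    · omega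
    · exact absurd y hd
  · exact absurd x hd

theorem hom2_one (R : Type*) [CommRing R] {r s : ℕ} (hind : C.Indep r s) :
    C.Hom2 R r s (fun _ _ => 1) 1 := by
  intro row col
  refine ⟨fun a b h t u => ?_, fun h => ?_⟩
  · by_cases e : row = col
    · subst e
      have h0 : C.Deg r s 0 0 row row := fun i _ => by simp
      obtain ⟨rfl, rfl⟩ := C.deg_unique hind h h0
      simp
    · simp [e]
  · have e : row ≠ col := fun e => h 0 0 (fun i _ => by simp [e])
    simp [e]

theorem hom2_x (R : Type*) [CommRing R] {r s : ℕ} (hind : C.Indep r s) {k : ℕ}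
    (hk : k < D.nroots) (c : ℤ) {i j : ℕ}
    (hcf : ∀ m < D.rank, C.cf k m = (i : ℤ) * C.cf r m + (j : ℤ) * C.cf s m) :
    C.Hom2 R r s (fun t u => xR D R k ((c : R) * t ^ i * u ^ j)) (xR D ℤ k c) := by
  intro row col
  have hterm : ∀ n, aMat D k n row col ≠ 0 → C.Deg r s (n * i) (n * j) row col := by
    intro n hn m hm
    rw [C.aMat_homog hk n row col hn m hm, hcf m hm]
    push_cast
    ring
  refine ⟨fun a b h t u => ?_, fun h => ?_⟩
  · show xR D R k ((c : R) * t ^ i * u ^ j) row col = _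
    simp only [xR, Matrix.of_apply, Int.cast_sum, Finset.sum_mul]
    refine Finset.sum_congr rfl fun n _ => ?_
    by_cases hn : aMat D k n row col = 0
    · simp [hn]
    · obtain ⟨rfl, rfl⟩ := C.deg_unique hind h (hterm n hn)
      push_cast
      ring
  · have hz : ∀ n, aMat D k n row col = 0 := fun n => by
      by_contra hn
      exact h _ _ (hterm n hn)
    exact ⟨by simp [xR, hz], fun t u => by simp [xR, hz]⟩

theorem hom2_mul {R : Type*} [CommRing R] {r s : ℕ} (hind : C.Indep r s)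
    {f g : R → R → Matrix D.Idx D.Idx R} {M N : Matrix D.Idx D.Idx ℤ}
    (hf : C.Hom2 R r s f M) (hg : C.Hom2 R r s g N) :
    C.Hom2 R r s (fun t u => f t u * g t u) (M * N) := by
  classical
  intro row col
  have hsplit : ∀ x, (∃ a b a' b', C.Deg r s a b row x ∧ C.Deg r s a' b' x col) ∨
      ((M row x = 0 ∧ ∀ t u, f t u row x = 0) ∨ (N x col = 0 ∧ ∀ t u, g t u x col = 0)) := by
    intro x
    by_cases h1 : ∃ a b, C.Deg r s a b row x
    · by_cases h2 : ∃ a b, C.Deg r s a b x col
      · obtain ⟨a, b, h1⟩ := h1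
        obtain ⟨a', b', h2⟩ := h2
        exact Or.inl ⟨a, b, a', b', h1, h2⟩
      · push Not at h2
        exact Or.inr (Or.inr ((hg x col).2 h2))
    · push Not at h1
      exact Or.inr (Or.inl ((hf row x).2 h1))
  have hdeg : ∀ {x a b a' b'}, C.Deg r s a b row x → C.Deg r s a' b' x col →
      C.Deg r s (a + a') (b + b') row col := by
    intro x a b a' b' h1 h2 m hm
    rw [h1 m hm, h2 m hm]
    push_cast
    ring
  refine ⟨fun A B h t u => ?_, fun h => ?_⟩
  · simp only [Matrix.mul_apply, Int.cast_sum, Finset.sum_mul]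
    refine Finset.sum_congr rfl fun x _ => ?_
    rcases hsplit x with ⟨a, b, a', b', h1, h2⟩ | ⟨e1, e2⟩ | ⟨e1, e2⟩
    · obtain ⟨rfl, rfl⟩ := C.deg_unique hind h (hdeg h1 h2)
      rw [(hf row x).1 a b h1, (hg x col).1 a' b' h2, pow_add, pow_add]
      push_cast
      ring
    · simp [e1, e2]
    · simp [e1, e2]
  · simp only [Matrix.mul_apply]
    refine ⟨Finset.sum_eq_zero fun x _ => ?_, fun t u => Finset.sum_eq_zero fun x _ => ?_⟩ <;>
    · rcases hsplit x with ⟨a, b, a', b', h1, h2⟩ | ⟨e1, e2⟩ | ⟨e1, e2⟩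
      · exact absurd (hdeg h1 h2) (h _ _)
      · simp [e1, e2]
      · simp [e1, e2]

theorem hom2_word (R : Type*) [CommRing R] {r s : ℕ} (hind : C.Indep r s) :
    ∀ (L : List (ℕ × ℤ × ℕ × ℕ)),
      (∀ c ∈ L, c.1 < D.nroots ∧ ∀ m < D.rank,
        C.cf c.1 m = (c.2.2.1 : ℤ) * C.cf r m + (c.2.2.2 : ℤ) * C.cf s m) →
      C.Hom2 R r s
        (fun t u => wordR D R (L.map fun c => (c.1, (c.2.1 : R) * t ^ c.2.2.1 * u ^ c.2.2.2)))
        (wordR D ℤ (L.map fun c => (c.1, c.2.1)))
  | [], _ => C.hom2_one R hind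
  | c :: L, h => by
    have h1 := C.hom2_x R hind (h c (by simp)).1 c.2.1 (i := c.2.2.1) (j := c.2.2.2)
      (h c (by simp)).2
    have h2 := hom2_word R hind L (fun d hd => h d (by simp [hd]))
    simpa [wordR_cons] using C.hom2_mul hind h1 h2

theorem comm_of_one {r s : ℕ} (hr : r < D.nroots) (hs : s < D.nroots) (hind : C.Indep r s)
    (hone : sameWord D (commLhsZ r s) (commRhsZ D r s) = true) (R : Type*) [CommRing R] (t u : R) :
    xR D R s u * xR D R r t = xR D R r t * xR D R s u * wordR D R (commW D R r s t u) := by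
  let L : List (ℕ × ℤ × ℕ × ℕ) := (r, 1, 1, 0) :: (s, 1, 0, 1) ::
    (D.commTerms r s).map fun c => (c.1, c.2.1 * (-1) ^ c.2.2.1, c.2.2)
  have hL : ∀ c ∈ L, c.1 < D.nroots ∧ ∀ m < D.rank,
      C.cf c.1 m = (c.2.2.1 : ℤ) * C.cf r m + (c.2.2.2 : ℤ) * C.cf s m := by
    intro c hc
    simp only [L, List.mem_cons, List.mem_map] at hc
    rcases hc with rfl | rfl | ⟨d, hd, rfl⟩
    · exact ⟨hr, fun m _ => by simp⟩
    · exact ⟨hs, fun m _ => by simp⟩
    · exact ⟨(C.commTerms_cf hd).1.1, (C.commTerms_cf hd).2⟩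
  let L' : List (ℕ × ℤ × ℕ × ℕ) := [(s, 1, 0, 1), (r, 1, 1, 0)]
  have hL' : ∀ c ∈ L', c.1 < D.nroots ∧ ∀ m < D.rank,
      C.cf c.1 m = (c.2.2.1 : ℤ) * C.cf r m + (c.2.2.2 : ℤ) * C.cf s m := by
    intro c hc
    simp only [L', List.mem_cons, List.not_mem_nil, or_false] at hc
    rcases hc with rfl | rfl
    · exact ⟨hs, fun m _ => by simp⟩
    · exact ⟨hr, fun m _ => by simp⟩
  have h1 := C.hom2_word R hind L hL
  have h2 := C.hom2_word R hind L' hL'
  have hM : wordR D ℤ (L.map fun c => (c.1, c.2.1)) = wordR D ℤ (L'.map fun c => (c.1, c.2.1)) := by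
    have := wordR_eq_of_sameWord C.targetsOK (v := commLhsZ r s) (w := commRhsZ D r s)
      (by simp [commLhsZ, hr, hs])
      (fun p hp => by
        simp only [commRhsZ, List.mem_cons, List.mem_map] at hp
        rcases hp with rfl | rfl | ⟨d, hd, rfl⟩
        · exact hr
        · exact hs
        · exact (C.commTerms_cf hd).1.1) hone
    simpa [L, L', commLhsZ, commRhsZ, List.map_map, Function.comp_def] using this.symm
  have key : wordR D R (L'.map fun c => (c.1, (c.2.1 : R) * t ^ c.2.2.1 * u ^ c.2.2.2)) =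
      wordR D R (L.map fun c => (c.1, (c.2.1 : R) * t ^ c.2.2.1 * u ^ c.2.2.2)) := by
    ext row col
    by_cases h : ∃ a b, C.Deg r s a b row col
    · obtain ⟨a, b, h⟩ := h
      exact ((h2 row col).1 a b h t u).trans (by rw [← hM]; exact ((h1 row col).1 a b h t u).symm)
    · push Not at h
      exact (((h2 row col).2 h).2 t u).trans (((h1 row col).2 h).2 t u).symm
  have e : (D.commTerms r s).map (fun c => (c.1, ((c.2.1 * (-1) ^ c.2.2.1 : ℤ) : R) *
      t ^ c.2.2.1 * u ^ c.2.2.2)) = commW D R r s t u := by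
    refine List.map_congr_left fun c _ => ?_
    rw [show -t = (-1) * t by ring, mul_pow]
    push_cast
    congr 1
    ring
  simpa [L, L', wordR_cons, wordR_nil, List.map_map, Function.comp_def, ← e, mul_assoc] using key

theorem xR_comm {r s : ℕ} (hr : r < D.nroots) (hs : s < D.nroots) (h1 : s ≠ r)
    (h2 : s ≠ D.neg r) (R : Type*) [CommRing R] (t u : R) :
    xR D R s u * xR D R r t = xR D R r t * xR D R s u * wordR D R (commW D R r s t u) := by
  have hneg : ∀ {i r s}, i < D.rank → r < D.nroots → s < D.nroots → s ≠ r → s ≠ D.neg r →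
      C.w i s ≠ C.w i r ∧ C.w i s ≠ D.neg (C.w i r) := by
    intro i r s hi hr hs h1 h2
    refine ⟨fun e => h1 (C.w_inj hi hs hr e), fun e => h2 ?_⟩
    rw [← C.w_neg hi hr] at e
    exact C.w_inj hi hs (C.neg_lt hr) e
  -- descent along fundamental reflections
  have hstep : ∀ {i r s}, i < D.rank → r < D.nroots → s < D.nroots →
      (∀ t u : R, xR D R (C.w i s) u * xR D R (C.w i r) t =
        xR D R (C.w i r) t * xR D R (C.w i s) u * wordR D R (commW D R (C.w i r) (C.w i s) t u)) →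
      ∀ t u : R, xR D R s u * xR D R r t =
        xR D R r t * xR D R s u * wordR D R (commW D R r s t u) := by
    intro i r s hi hr hs h t u
    have hb : ∀ p ∈ commW D R r s t u, p.1 < D.nroots := by
      intro p hp
      simp only [commW, List.mem_map] at hp
      obtain ⟨c, hc, rfl⟩ := hp
      exact (C.commTerms_cf hc).1.1
    refine (C.isUnit_nR R hi).mul_left_cancel ?_
    have hl : C.nR R i * (xR D R s u * xR D R r t) = xR D R (C.w i s) ((C.sg i s : R) * u) *
        xR D R (C.w i r) ((C.sg i r : R) * t) * C.nR R i := by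
      rw [← mul_assoc, C.nR_mul_xR R hi hs, mul_assoc, C.nR_mul_xR R hi hr, ← mul_assoc]
    have hrt : C.nR R i * (xR D R r t * xR D R s u * wordR D R (commW D R r s t u)) =
        xR D R (C.w i r) ((C.sg i r : R) * t) * xR D R (C.w i s) ((C.sg i s : R) * u) *
          wordR D R (commW D R (C.w i r) (C.w i s) ((C.sg i r : R) * t) ((C.sg i s : R) * u)) *
          C.nR R i := by
      rw [C.commW_w R hi hr hs]
      simp only [mul_assoc]
      rw [← C.nR_mul_wordR R hi _ hb, ← mul_assoc (xR D R (C.w i s) _) (C.nR R i),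
        ← C.nR_mul_xR R hi hs, mul_assoc (C.nR R i), ← mul_assoc (xR D R (C.w i r) _),
        ← C.nR_mul_xR R hi hr, mul_assoc]
    rw [hl, h, hrt]
  suffices h : ∀ m r s, (D.nroots - r) * (D.nroots + 1) + (D.nroots - s) ≤ m → r < D.nroots →
      s < D.nroots → s ≠ r → s ≠ D.neg r → ∀ t u : R, xR D R s u * xR D R r t =
        xR D R r t * xR D R s u * wordR D R (commW D R r s t u) from
    h _ r s le_rfl hr hs h1 h2 t u
  intro m
  induction m with
  | zero =>
    intro r s hm hr hs
    have : 0 < (D.nroots - r) * (D.nroots + 1) := Nat.mul_pos (by omega) (by omega)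
    omega
  | succ m ih =>
    intro r s hm hr hs h1 h2
    by_cases htop : ∀ i < D.rank, ¬ r < C.w i r
    · by_cases hstab : ∀ i < D.rank, C.w i r = r → ¬ s < C.w i s
      · obtain ⟨hone, hind⟩ := C.top_comm r hr htop s hs h1 h2 hstab
        exact fun t u => C.comm_of_one hr hs hind hone R t u
      · push Not at hstab
        obtain ⟨i, hi, hri, hsi⟩ := hstab
        have hws := C.w_lt i hi s hs
        have hn := hneg hi hr hs h1 h2
        refine hstep hi hr hs (fun t u => ?_)
        refine ih _ _ ?_ (C.w_lt i hi r hr).1 hws.1 hn.1 hn.2 t u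
        rw [hri]
        omega
    · push Not at htop
      obtain ⟨i, hi, hlt⟩ := htop
      have hwr := C.w_lt i hi r hr
      have hn := hneg hi hr hs h1 h2
      refine hstep hi hr hs (fun t u => ?_)
      refine ih _ _ ?_ hwr.1 (C.w_lt i hi s hs).1 hn.1 hn.2 t u
      have : (D.nroots - C.w i r) * (D.nroots + 1) + (D.nroots + 1) ≤
          (D.nroots - r) * (D.nroots + 1) := by
        rw [← Nat.succ_mul]
        exact Nat.mul_le_mul_right _ (by omega)
      omega

end Cert

end Cfsg.Agent.Chevalley
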