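/-
Root elements as elements of the general linear group, words in them, conjugation by the
fundamental monomial elements.
-/
import Cfsg.Agent.Chevalley.Commutator

set_option autoImplicit false

namespace Cfsg.Agent.Chevalley

open Cfsg.Lie Cfsg.Lie.ChevalleyDatum
open scoped Matrix

namespace Cert

variable {D : ChevalleyDatum} (C : Cert D) (F : Type*) [Field F]
include C

theorem x_add (r : ℕ) (t u : F) : D.x F r t * D.x F r u = D.x F r (t + u) := by
  by_cases hr : r < D.nroots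
  · rw [C.x_eq hr, C.x_eq hr, C.x_eq hr, C.xR_add F hr]
  · simp [ChevalleyDatum.x, hr]

theorem x_zero (r : ℕ) : D.x F r 0 = 1 := by
  by_cases hr : r < D.nroots
  · rw [C.x_eq hr, C.xR_zero]
  · simp [ChevalleyDatum.x, hr]

theorem wordR_eq (w : List (ℕ × F)) (hw : ∀ p ∈ w, p.1 < D.nroots) :
    wordR D F w = D.wordMat F w := by
  induction w with
  | nil => rfl
  | cons p w ih =>
    rw [wordR_cons, ih (fun q hq => hw q (by simp [hq]))]
    simp [wordMat, C.x_eq (hw p (by simp))]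

theorem x_comm {r s : ℕ} (hr : r < D.nroots) (hs : s < D.nroots) (h1 : s ≠ r) (h2 : s ≠ D.neg r)
    (t u : F) :
    D.x F s u * D.x F r t = D.x F r t * D.x F s u * D.wordMat F (D.commWord F r s t u) := by
  rw [C.x_eq hr, C.x_eq hs, C.xR_comm hr hs h1 h2 F t u, ← C.wordR_eq F (D.commWord F r s t u)]
  · rfl
  · intro p hp
    simp only [commWord, List.mem_map] at hp
    obtain ⟨c, hc, rfl⟩ := hp
    exact (C.commTerms_cf hc).1.1

theorem x_eq_one_iff {r : ℕ} (hr : r < D.nroots) (t : F) : D.x F r t = 1 ↔ t = 0 := by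
  refine ⟨fun h => ?_, fun h => h ▸ C.x_zero F r⟩
  have hc : ∀ c ∈ (List.range D.rank).map (cor D r), (c : F) * t = 0 := by
    intro c hc
    simp only [List.mem_map, List.mem_range] at hc
    obtain ⟨i, hi, rfl⟩ := hc
    have := congrFun (congrFun h (.inl ⟨i, hi⟩)) (.inr ⟨D.neg r, C.neg_lt hr⟩)
    rw [C.x_eq hr] at this
    simpa [xR, entIS, Finset.sum_range_succ] using this
  have key : ∀ L : List ℤ, (∀ c ∈ L, (c : F) * t = 0) →
      ((L.foldr (fun c g => Int.gcd c g) 0 : ℕ) : F) * t = 0 := by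
    intro L hL
    induction L with
    | nil => simp
    | cons c L ih =>
      have ih' := ih fun d hd => hL d (by simp [hd])
      have hb := congrArg (fun z : ℤ => (z : F) * t)
        (Int.gcd_eq_gcd_ab c (L.foldr (fun c g => Int.gcd c g) 0 : ℕ))
      push_cast at hb
      simp only [List.foldr_cons]
      rw [hb]
      linear_combination (Int.gcdA c _ : F) * hL c (by simp) + (Int.gcdB c _ : F) * ih'
  simpa [C.cor_gcd r hr] using key _ hc

/-- the root element as an element of the general linear group -/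
def xU (r : ℕ) (t : F) : GL D.Idx F :=
  ⟨D.x F r t, D.x F r (-t), by rw [C.x_add, add_neg_cancel, C.x_zero],
    by rw [C.x_add, neg_add_cancel, C.x_zero]⟩

@[simp] theorem coe_xU (r : ℕ) (t : F) : (C.xU F r t : Matrix D.Idx D.Idx F) = D.x F r t := rfl

theorem xU_add (r : ℕ) (t u : F) : C.xU F r t * C.xU F r u = C.xU F r (t + u) :=
  Units.ext (C.x_add F r t u)

theorem xU_zero (r : ℕ) : C.xU F r 0 = 1 := Units.ext (C.x_zero F r)

theorem xU_inv (r : ℕ) (t : F) : (C.xU F r t)⁻¹ = C.xU F r (-t) :=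
  inv_eq_of_mul_eq_one_right (by rw [C.xU_add, add_neg_cancel, C.xU_zero])

theorem xU_eq_one_iff {r : ℕ} (hr : r < D.nroots) (t : F) : C.xU F r t = 1 ↔ t = 0 :=
  ⟨fun h => (C.x_eq_one_iff F hr t).1 (congrArg Units.val h), fun h => h ▸ C.xU_zero F r⟩

theorem eq_xU_iff (g : GL D.Idx F) (r : ℕ) (t : F) :
    (g : Matrix D.Idx D.Idx F) = D.x F r t ↔ g = C.xU F r t :=
  ⟨fun h => Units.ext h, fun h => h ▸ rfl⟩

/-- a word as an element of the general linear group -/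
def wU (w : List (ℕ × F)) : GL D.Idx F := (w.map fun p => C.xU F p.1 p.2).prod

@[simp] theorem coe_wU (w : List (ℕ × F)) :
    (C.wU F w : Matrix D.Idx D.Idx F) = D.wordMat F w := by
  induction w with
  | nil => rfl
  | cons p w ih => simp [wU, wordMat] at ih ⊢; rw [ih]

theorem wU_cons (p : ℕ × F) (w : List (ℕ × F)) : C.wU F (p :: w) = C.xU F p.1 p.2 * C.wU F w := by
  simp [wU]

theorem wU_nil : C.wU F [] = 1 := rfl

theorem wU_append (v w : List (ℕ × F)) : C.wU F (v ++ w) = C.wU F v * C.wU F w := by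
  simp [wU]

theorem wU_mem {H : Subgroup (GL D.Idx F)} {w : List (ℕ × F)}
    (h : ∀ p ∈ w, C.xU F p.1 p.2 ∈ H) : C.wU F w ∈ H :=
  H.list_prod_mem fun g hg => by
    simp only [List.mem_map] at hg
    obtain ⟨p, hp, rfl⟩ := hg
    exact h p hp

theorem xU_comm {r s : ℕ} (hr : r < D.nroots) (hs : s < D.nroots) (h1 : s ≠ r) (h2 : s ≠ D.neg r)
    (t u : F) : C.xU F s u * C.xU F r t =
      C.xU F r t * C.xU F s u * C.wU F (D.commWord F r s t u) :=
  Units.ext (by simp [C.x_comm F hr hs h1 h2 t u])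

theorem xU_conj {r s : ℕ} (hr : r < D.nroots) (hs : s < D.nroots) (h1 : s ≠ r)
    (h2 : s ≠ D.neg r) (t u : F) : (C.xU F r t)⁻¹ * C.xU F s u * C.xU F r t =
      C.xU F s u * C.wU F (D.commWord F r s t u) := by
  rw [mul_assoc, C.xU_comm F hr hs h1 h2, mul_assoc, ← mul_assoc, inv_mul_cancel, one_mul]

theorem closure_eq (P : ℕ → Prop) :
    Subgroup.closure {g : GL D.Idx F | ∃ (r : ℕ) (t : F), P r ∧
      (g : Matrix D.Idx D.Idx F) = D.x F r t} =
    Subgroup.closure {g | ∃ r t, P r ∧ g = C.xU F r t} := by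
  simp only [C.eq_xU_iff]

theorem group_eq :
    D.group F = Subgroup.closure {g | ∃ r t, r < D.nroots ∧ g = C.xU F r t} := by
  rw [← C.closure_eq F (fun r => r < D.nroots)]
  refine congrArg Subgroup.closure (Set.ext fun g => ⟨?_, ?_⟩)
  · rintro ⟨r, t, h⟩
    exact ⟨r, t, r.isLt, by simpa [ChevalleyDatum.x] using h⟩
  · rintro ⟨r, t, hr, h⟩
    exact ⟨⟨r, hr⟩, t, by simpa [ChevalleyDatum.x, hr] using h⟩

theorem xU_mem_group (r : ℕ) (t : F) : C.xU F r t ∈ D.group F := by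
  by_cases hr : r < D.nroots
  · rw [C.group_eq]
    exact Subgroup.subset_closure ⟨r, t, hr, rfl⟩
  · have : C.xU F r t = 1 := Units.ext (by simp [ChevalleyDatum.x, hr])
    rw [this]
    exact one_mem _

theorem mem_rootSubgroup {r : ℕ} {g : GL D.Idx F} :
    g ∈ D.rootSubgroup F r ↔ ∃ t, g = C.xU F r t := by
  refine ⟨fun h => ?_, fun ⟨t, ht⟩ => Subgroup.subset_closure ⟨t, ht ▸ rfl⟩⟩
  refine Subgroup.closure_induction (p := fun g _ => ∃ t, g = C.xU F r t) ?_ ⟨0, (C.xU_zero F r).symm⟩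
    ?_ ?_ h
  · rintro g ⟨t, ht⟩; exact ⟨t, Units.ext ht⟩
  · rintro _ _ _ _ ⟨t, rfl⟩ ⟨u, rfl⟩; exact ⟨t + u, C.xU_add F r t u⟩
  · rintro _ _ ⟨t, rfl⟩; exact ⟨-t, C.xU_inv F r t⟩

/-- `n_r(t)` -/
def nU (r : ℕ) (t : F) : GL D.Idx F := C.wU F (D.nWord r t)

/-- `h_r(t)` -/
def hU (r : ℕ) (t : F) : GL D.Idx F := C.wU F (D.hWord r t)

@[simp] theorem coe_nU (r : ℕ) (t : F) : (C.nU F r t : Matrix D.Idx D.Idx F) = D.nMat F r t :=
  C.coe_wU F _

@[simp] theorem coe_hU (r : ℕ) (t : F) : (C.hU F r t : Matrix D.Idx D.Idx F) = D.hMat F r t :=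
  C.coe_wU F _

theorem nU_eq (r : ℕ) (t : F) :
    C.nU F r t = C.xU F r t * C.xU F (D.neg r) (-t⁻¹) * C.xU F r t := by
  simp [nU, nWord, wU, mul_assoc]

theorem hU_eq (r : ℕ) (t : F) : C.hU F r t = C.nU F r t * C.nU F r (-1) := C.wU_append F _ _

theorem nU_inv (r : ℕ) (t : F) : (C.nU F r t)⁻¹ = C.nU F r (-t) := by
  simp [C.nU_eq, mul_inv_rev, C.xU_inv, mul_assoc, inv_neg]

theorem hU_one (r : ℕ) : C.hU F r 1 = 1 := by
  rw [C.hU_eq, ← C.nU_inv F r 1, mul_inv_cancel]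

/-- `n_{p_i}` -/
def nS (i : ℕ) : GL D.Idx F := C.nU F (D.simple i) 1

theorem coe_nS {i : ℕ} (hi : i < D.rank) :
    (C.nS F i : Matrix D.Idx D.Idx F) = C.nR F i := by
  have hp := (C.simple_lt i hi).1
  rw [nS, coe_nU, C.nR_eq_word F hi, C.wordR_eq F _ (by simp [hp, C.neg_lt hp])]
  simp [nMat, nWord, wordMat]

theorem nS_mul_xU {i r : ℕ} (hi : i < D.rank) (hr : r < D.nroots) (t : F) :
    C.nS F i * C.xU F r t = C.xU F (C.w i r) ((C.sg i r : F) * t) * C.nS F i :=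
  Units.ext (by
    simp only [Units.val_mul, coe_xU, C.coe_nS F hi, C.x_eq hr, C.x_eq (C.w_lt i hi r hr).1]
    exact C.nR_mul_xR F hi hr t)

theorem nS_conj_xU {i r : ℕ} (hi : i < D.rank) (hr : r < D.nroots) (t : F) :
    C.nS F i * C.xU F r t * (C.nS F i)⁻¹ = C.xU F (C.w i r) ((C.sg i r : F) * t) := by
  rw [C.nS_mul_xU F hi hr, mul_inv_cancel_right]

theorem nS_conj_nU {i r : ℕ} (hi : i < D.rank) (hr : r < D.nroots) (t : F) :
    C.nS F i * C.nU F r t * (C.nS F i)⁻¹ = C.nU F (C.w i r) ((C.sg i r : F) * t) := by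
  have e : (C.sg i (D.neg r) : F) * -t⁻¹ = -((C.sg i r : F) * t)⁻¹ := by
    rw [C.sg_neg hi hr]
    rcases C.sg_pm i r with h | h <;> simp [h, inv_neg]
  calc C.nS F i * C.nU F r t * (C.nS F i)⁻¹
      = (C.nS F i * C.xU F r t * (C.nS F i)⁻¹) *
          (C.nS F i * C.xU F (D.neg r) (-t⁻¹) * (C.nS F i)⁻¹) *
          (C.nS F i * C.xU F r t * (C.nS F i)⁻¹) := by rw [C.nU_eq]; group
    _ = _ := by
      rw [C.nS_conj_xU F hi hr, C.nS_conj_xU F hi (C.neg_lt hr), C.w_neg hi hr, e, ← C.nU_eq]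

end Cert

end Cfsg.Agent.Chevalley
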