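/-
The certificates of the seven tabulated Chevalley data.
-/
import Cfsg.Agent.Chevalley.DataB2
import Cfsg.Agent.Chevalley.DataG2
import Cfsg.Agent.Chevalley.DataD4
import Cfsg.Agent.Chevalley.DataF4
import Cfsg.Agent.Chevalley.DataE6
import Cfsg.Agent.Chevalley.DataE7
import Cfsg.Agent.Chevalley.DataE8
import Cfsg.Agent.Chevalley.Group

set_option autoImplicit false

namespace Cfsg.Agent.Chevalley

open Cfsg.Lie

/-- every tabulated datum has a certificate -/
theorem exists_cert {D : ChevalleyDatum}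
    (hD : D ∈ [chevG2, chevB2, chevD4, chevF4, chevE6, chevE7, chevE8]) : Nonempty (Cert D) := by
  simp only [List.mem_cons, List.not_mem_nil, or_false] at hD
  rcases hD with rfl | rfl | rfl | rfl | rfl | rfl | rfl
  · exact ⟨G2.cert⟩
  · exact ⟨B2.cert⟩
  · exact ⟨D4.cert⟩
  · exact ⟨F4.cert⟩
  · exact ⟨E6.cert⟩
  · exact ⟨E7.cert⟩
  · exact ⟨E8.cert⟩

end Cfsg.Agent.Chevalley
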