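/-
The unipotent subgroup `U`: normal form, order, and intersections with `H`, `N` and the opposite
unipotent subgroup.
-/
import Cfsg.Agent.H37.Chev.All
import Cfsg.Agent.H37.Chev.GLForm
import Cfsg.Agent.H37.Chev.Result
import Cfsg.Agent.H37.Chev.Parabolic

set_option autoImplicit false

namespace Cfsg.Agent.Chevalley.Uni

open Cfsg.Lie Cfsg.Agent.H37 Cfsg.Agent.H37.RootSys

/-! normal form in an ordered system of root subgroups -/

section

variable {G F : Type*} [Group G] [Field F] {Y : Unip G F} {n : ℕ}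

theorem prod_mem_tail {k m : ℕ} (hP : ∀ r, k ≤ r → r < k + m → r ∈ Y.P) (t : ℕ → F) :
    ((List.range' k m).map fun r => Y.x r (t r)).prod ∈ XS Y.x {r | r ∈ Y.P ∧ k ≤ r} := by
  refine Subgroup.list_prod_mem _ fun g hg => ?_
  simp only [List.mem_map, List.mem_range'_1] at hg
  obtain ⟨r, ⟨h1, h2⟩, rfl⟩ := hg
  exact x_mem_XS (S := {r | r ∈ Y.P ∧ k ≤ r}) ⟨hP r h1 h2, h1⟩ _

theorem exists_prod {h : ℕ} (hP : ∀ r, r ∈ Y.P ↔ h ≤ r ∧ r < n) :
    ∀ m k, h ≤ k → k + m = n → ∀ g ∈ XS Y.x {r | r ∈ Y.P ∧ k ≤ r},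
      ∃ t : ℕ → F, g = ((List.range' k m).map fun r => Y.x r (t r)).prod
  | 0, k, _, hkm, g, hg => by
    have h0 : {r | r ∈ Y.P ∧ k ≤ r} = ∅ := Set.eq_empty_iff_forall_notMem.2 fun r hr => by
      have := ((hP r).1 hr.1).2
      have := hr.2
      omega
    rw [h0, XS_empty, Subgroup.mem_bot] at hg
    exact ⟨0, by simp [hg]⟩
  | m + 1, k, hk, hkm, g, hg => by
    obtain ⟨u, p, hp, rfl⟩ :=
      Y.exists_head Y.closed_P ((hP k).2 ⟨hk, by omega⟩) hg
    obtain ⟨t, ht⟩ := exists_prod hP m (k + 1) (by omega) (by omega) p hp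
    refine ⟨Function.update t k u, ?_⟩
    rw [List.range'_succ, List.map_cons, List.prod_cons, Function.update_self, ht]
    congr 2
    refine List.map_congr_left fun r hr => ?_
    rw [List.mem_range'_1] at hr
    rw [Function.update_of_ne (by omega)]

theorem prod_inj {h : ℕ} (hP : ∀ r, r ∈ Y.P ↔ h ≤ r ∧ r < n) :
    ∀ m k, h ≤ k → k + m = n → ∀ t t' : ℕ → F,
      ((List.range' k m).map fun r => Y.x r (t r)).prod =
        ((List.range' k m).map fun r => Y.x r (t' r)).prod →
      ∀ r, k ≤ r → r < k + m → t r = t' r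
  | 0, _, _, _, _, _, _, r, h1, h2 => absurd h2 (by omega)
  | m + 1, k, hk, hkm, t, t', e, r, h1, h2 => by
    simp only [List.range'_succ, List.map_cons, List.prod_cons] at e
    have hP' : ∀ r, k + 1 ≤ r → r < k + 1 + m → r ∈ Y.P :=
      fun r a b => (hP r).2 ⟨by omega, by omega⟩
    obtain ⟨e1, e2⟩ := Y.head_unique Y.closed_P ((hP k).2 ⟨hk, by omega⟩)
      (prod_mem_tail hP' t) (prod_mem_tail hP' t') e
    rcases Nat.eq_or_lt_of_le h1 with rfl | h1
    · exact e1
    · exact prod_inj hP m (k + 1) (by omega) (by omega) t t' e2 r h1 (by omega)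

end

variable {D : ChevalleyDatum} {F : Type*} [Field F] (Q : Chev.Data D F)

include Q in
theorem posRoots_eq :
    D.posRoots = List.range' (D.nroots / 2) (D.nroots - D.nroots / 2) := by
  have key : ∀ n h : ℕ, h ≤ n →
      (List.range n).filter (fun r => decide (h ≤ r)) = List.range' h (n - h) := by
    intro n h hh
    obtain ⟨m, rfl⟩ := Nat.exists_eq_add_of_le hh
    rw [List.range_eq_range', ← List.range'_append_1, List.filter_append,
      List.filter_eq_nil_iff.2 (fun r hr => by simp at hr ⊢; omega), List.nil_append,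
      List.filter_eq_self.2 (fun r hr => by simp [List.mem_range'_1] at hr ⊢; omega)]
    simp
  rw [← key D.nroots (D.nroots / 2) (Nat.div_le_self _ _)]
  refine List.filter_congr fun r hr => ?_
  rw [List.mem_range] at hr
  simp [Q.ord.isPosRoot_iff r, hr]

include Q in
theorem exists_unique_word :
    (∀ g : GL D.Idx F, g ∈ D.posUnipotent F →
      ∃! t : ℕ → F, (∀ r, ¬ D.IsPosRoot r → t r = 0) ∧
        (g : Matrix D.Idx D.Idx F) = D.wordMat F (D.posRoots.map fun r => (r, t r))) ∧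
    (∀ t : ℕ → F, ∃ g : GL D.Idx F, g ∈ D.posUnipotent F ∧
      (g : Matrix D.Idx D.Idx F) = D.wordMat F (D.posRoots.map fun r => (r, t r))) := by
  set h := D.nroots / 2 with hh
  set m := D.nroots - h with hm
  have hle : h ≤ D.nroots := Nat.div_le_self _ _
  let Y := Q.sys.toUnip
  have hP : ∀ r, r ∈ Y.P ↔ h ≤ r ∧ r < D.nroots := fun r => by
    show r ∈ posSet D ↔ _
    rw [mem_posSet]; exact and_comm
  have hpos := posRoots_eq Q
  rw [← hh, ← hm] at hpos
  have hword : ∀ t : ℕ → F, D.wordMat F (D.posRoots.map fun r => (r, t r)) =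
      (((((List.range' h m).map fun r => Y.x r (t r)).prod : ↥(D.group F)) : GL D.Idx F) :
        Matrix D.Idx D.Idx F) := by
    intro t
    rw [hpos]
    induction List.range' h m with
    | nil => rfl
    | cons a L ih =>
      simp only [List.map_cons, List.prod_cons, ChevalleyDatum.wordMat, Subgroup.coe_mul,
        Units.val_mul] at ih ⊢
      rw [ih]
      rfl
  have hmem : ∀ t : ℕ → F,
      ((((List.range' h m).map fun r => Y.x r (t r)).prod : ↥(D.group F)) : GL D.Idx F)
        ∈ D.posUnipotent F := fun t => by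
    have : ((List.range' h m).map fun r => Y.x r (t r)).prod ∈ Q.amb.U :=
      XS_mono (fun r hr => hr.1) (prod_mem_tail (fun r a b => (hP r).2 ⟨a, by omega⟩) t)
    rw [Q.amb_U] at this
    exact this
  refine ⟨fun g hg => ?_, fun t => ⟨_, hmem t, (hword t).symm⟩⟩
  have hg' : (⟨g, posUnipotent_le_group hg⟩ : ↥(D.group F)) ∈ XS Y.x {r | r ∈ Y.P ∧ h ≤ r} := by
    refine XS_mono (S := (↑(posSet D) : Set ℕ)) (S' := {r | r ∈ Y.P ∧ h ≤ r})
      (fun r hr => ⟨hr, ((hP r).1 hr).1⟩) ?_
    show _ ∈ Q.amb.U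
    rw [Q.amb_U]
    exact hg
  obtain ⟨t, ht⟩ := exists_prod hP m h le_rfl (by omega) _ hg'
  let t0 : ℕ → F := fun r => if h ≤ r ∧ r < D.nroots then t r else 0
  have ht0 : ((List.range' h m).map fun r => Y.x r (t0 r)).prod =
      ((List.range' h m).map fun r => Y.x r (t r)).prod := by
    congr 1
    refine List.map_congr_left fun r hr => ?_
    rw [List.mem_range'_1] at hr
    simp only [t0]
    rw [if_pos ⟨hr.1, by omega⟩]
  have hsupp : ∀ r, ¬ D.IsPosRoot r → t0 r = 0 := fun r hr => by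
    rw [Q.ord.isPosRoot_iff] at hr
    simp only [t0]
    rw [if_neg (fun hc => hr ⟨hc.2, hc.1⟩)]
  refine ⟨t0, ⟨hsupp, by rw [hword, ht0, ← ht]⟩, ?_⟩
  rintro t' ⟨ht', e⟩
  rw [hword] at e
  have e' : ((List.range' h m).map fun r => Y.x r (t' r)).prod =
      ((List.range' h m).map fun r => Y.x r (t0 r)).prod := by
    rw [ht0, ← ht]
    exact Subtype.ext (Units.ext e.symm)
  funext r
  by_cases hr : D.IsPosRoot r
  · rw [Q.ord.isPosRoot_iff] at hr
    exact prod_inj hP m h le_rfl (by omega) t' t0 e' r hr.2 (by omega)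
  · rw [ht' r hr, hsupp r hr]

include Q in
theorem card_posUnipotent :
    Nat.card (D.posUnipotent F) = Nat.card F ^ (D.nroots / 2) := by
  rw [← Q.card_U, Q.amb_U]
  exact (Nat.card_congr (Subgroup.subgroupOfEquivOfLe posUnipotent_le_group).toEquiv).symm

include Q in
theorem diag_normalizes_pos : D.diagonalSubgroup F ≤
    Subgroup.normalizer (D.posUnipotent F : Set (GL D.Idx F)) := by
  have key : ∀ h ∈ D.diagonalSubgroup F, ∀ g ∈ D.posUnipotent F,
      h * g * h⁻¹ ∈ D.posUnipotent F := fun h hh g hg => by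
    have : D.posUnipotent F ≤ (D.posUnipotent F).comap (MulAut.conj h).toMonoidHom := by
      refine (Subgroup.closure_le _).2 ?_
      rintro x ⟨r, t, hr, hx⟩
      rw [← Q.K.coe_xU] at hx
      rw [Units.ext hx]
      obtain ⟨t', e⟩ := Q.T.conj h hh r ((Q.ord.isPosRoot_iff r).1 hr).1 t
      exact Subgroup.subset_closure ⟨r, t', hr,
        by rw [← Q.K.coe_xU]; exact congrArg Units.val e⟩
    exact this hg
  intro h hh
  rw [Subgroup.mem_normalizer_iff]
  intro g
  refine ⟨fun hg => key h hh g hg, fun hg => ?_⟩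
  simpa [mul_assoc] using key h⁻¹ (inv_mem hh) _ hg

include Q in
theorem diag_normalizes_neg : D.diagonalSubgroup F ≤
    Subgroup.normalizer (D.negUnipotent F : Set (GL D.Idx F)) := by
  have key : ∀ h ∈ D.diagonalSubgroup F, ∀ g ∈ D.negUnipotent F,
      h * g * h⁻¹ ∈ D.negUnipotent F := fun h hh g hg => by
    have : D.negUnipotent F ≤ (D.negUnipotent F).comap (MulAut.conj h).toMonoidHom := by
      refine (Subgroup.closure_le _).2 ?_
      rintro x ⟨r, t, hr, hx⟩
      rw [← Q.K.coe_xU] at hx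
      rw [Units.ext hx]
      have hr' : r < D.nroots := by
        have := (Q.ord.isNegRoot_iff r).1 hr
        omega
      obtain ⟨t', e⟩ := Q.T.conj h hh r hr' t
      exact Subgroup.subset_closure ⟨r, t', hr,
        by rw [← Q.K.coe_xU]; exact congrArg Units.val e⟩
    exact this hg
  intro h hh
  rw [Subgroup.mem_normalizer_iff]
  intro g
  refine ⟨fun hg => key h hh g hg, fun hg => ?_⟩
  simpa [mul_assoc] using key h⁻¹ (inv_mem hh) _ hg

include Q in
theorem mul_diag_apply {u h : GL D.Idx F} (hh : h ∈ D.diagonalSubgroup F) (a b : D.Idx) :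
    ((u * h : GL D.Idx F) : Matrix D.Idx D.Idx F) a b =
      (u : Matrix D.Idx D.Idx F) a b * (h : Matrix D.Idx D.Idx F) b b := by
  rw [Units.val_mul, Matrix.mul_apply, Finset.sum_eq_single b]
  · intro c _ hc
    rw [Q.T.off h hh c b hc, mul_zero]
  · intro hb
    exact absurd (Finset.mem_univ _) hb

include Q in
theorem pos_diag_one {u : GL D.Idx F} (hu : u ∈ D.posUnipotent F) (a : D.Idx) :
    (u : Matrix D.Idx D.Idx F) a a = 1 :=
  raises_diag (rk' := rk D) (posUnipotent_le_uni (F := F) Q.ord hu) a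

include Q in
theorem neg_diag_one {u : GL D.Idx F} (hu : u ∈ D.negUnipotent F) (a : D.Idx) :
    (u : Matrix D.Idx D.Idx F) a a = 1 :=
  raises_diag (rk' := rkRev D) (negUnipotent_le_uni (F := F) Q.ord hu) a

include Q in
theorem diag_eq_one {h : GL D.Idx F} (hh : h ∈ D.diagonalSubgroup F)
    (h1 : ∀ a, (h : Matrix D.Idx D.Idx F) a a = 1) : h = 1 := by
  refine Units.ext (Matrix.ext fun a b => ?_)
  by_cases hab : a = b
  · subst hab; simp [h1 a]
  · simp [hab, Q.T.off h hh a b hab]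

include Q in
theorem pos_inf_diag : D.posUnipotent F ⊓ D.diagonalSubgroup F = ⊥ :=
  eq_bot_iff.2 fun g hg => Subgroup.mem_bot.2
    (diag_eq_one Q hg.2 (pos_diag_one Q hg.1))

include Q in
theorem exists_pos_diag {g : GL D.Idx F} (hg : g ∈ D.borelSubgroup F) :
    ∃ u ∈ D.posUnipotent F, ∃ h ∈ D.diagonalSubgroup F, g = u * h := by
  rw [ChevalleyDatum.borelSubgroup, ← SetLike.mem_coe,
    Subgroup.coe_mul_of_right_le_normalizer_left _ _ (diag_normalizes_pos Q)] at hg
  obtain ⟨u, hu, h, hh, rfl⟩ := Set.mem_mul.1 hg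
  exact ⟨u, hu, h, hh, rfl⟩

include Q in
theorem borel_inf_neg : D.borelSubgroup F ⊓ D.negUnipotent F = ⊥ := by
  refine eq_bot_iff.2 fun g hg => Subgroup.mem_bot.2 ?_
  obtain ⟨u, hu, h, hh, rfl⟩ := exists_pos_diag Q hg.1
  have h1 : h = 1 := diag_eq_one Q hh fun a => by
    have := neg_diag_one Q hg.2 a
    rwa [mul_diag_apply Q hh, pos_diag_one Q hu, one_mul] at this
  subst h1
  rw [mul_one]
  exact Q.pos_inf_neg hu (by simpa using hg.2)

include Q in
theorem borel_inf_negBorel :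
    D.borelSubgroup F ⊓ (D.negUnipotent F ⊔ D.diagonalSubgroup F) = D.diagonalSubgroup F := by
  refine le_antisymm ?_ (le_inf le_sup_right le_sup_right)
  intro g hg
  obtain ⟨hg1, hg2⟩ := hg
  obtain ⟨u, hu, h, hh, rfl⟩ := exists_pos_diag Q hg1
  change _ ∈ (↑(D.negUnipotent F ⊔ D.diagonalSubgroup F) : Set (GL D.Idx F)) at hg2
  rw [Subgroup.coe_mul_of_right_le_normalizer_left _ _ (diag_normalizes_neg Q)] at hg2
  obtain ⟨v, hv, k, hk, e⟩ := Set.mem_mul.1 hg2
  have e' : v * (k * h⁻¹) = u := by rw [← mul_assoc, e, mul_inv_cancel_right]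
  have hkh : k * h⁻¹ = 1 := diag_eq_one Q (mul_mem hk (inv_mem hh)) fun a => by
    have := pos_diag_one Q hu a
    rwa [← e', mul_diag_apply Q (mul_mem hk (inv_mem hh)), neg_diag_one Q hv,
      one_mul] at this
  rw [hkh, mul_one] at e'
  rw [Q.pos_inf_neg hu (e' ▸ hv), one_mul]
  exact hh

include Q in
theorem borel_inf_monomial :
    D.borelSubgroup F ⊓ D.monomialSubgroup F = D.diagonalSubgroup F := by
  refine le_antisymm ?_ (le_inf le_sup_right ?_)
  · intro g hg
    have hgG : g ∈ D.group F :=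
      (sup_le posUnipotent_le_group (diagonal_le_group Q.ord) : D.borelSubgroup F ≤ D.group F) hg.1
    have h : (⟨g, hgG⟩ : ↥(D.group F)) ∈ Q.amb.B ⊓ Q.amb.N := by
      rw [Q.amb_B, Q.amb_N]
      exact hg
    rw [Q.amb.B_inf_N, Q.amb_H] at h
    exact h
  · intro g hg
    exact (Q.mem_mono_iff).2 ⟨g, hg, 1, by simp [Chev.Data.repGL, Q.sys.rep_one]⟩

include Q in
theorem pos_inf_monomial : D.posUnipotent F ⊓ D.monomialSubgroup F = ⊥ := by
  refine eq_bot_iff.2 fun g hg => ?_
  rw [← pos_inf_diag Q, ← borel_inf_monomial Q]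
  exact ⟨hg.1, le_sup_left (a := D.posUnipotent F) hg.1, hg.2⟩

end Cfsg.Agent.Chevalley.Uni
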