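/-
The elements `h_r(t)` and the diagonal subgroup.
-/
import Cfsg.Agent.Chevalley.Group

set_option autoImplicit false

namespace Cfsg.Agent.Chevalley

open Cfsg.Lie Cfsg.Lie.ChevalleyDatum
open scoped Matrix

variable {D : ChevalleyDatum} {F : Type*} [Field F]

/-- the diagonal element of a `Fˣ`-valued function on coordinates -/
def dU (χ : D.Idx → Fˣ) : GL D.Idx F :=
  ⟨Matrix.diagonal fun x => (χ x : F), Matrix.diagonal fun x => ((χ x)⁻¹ : Fˣ),
    by simp [Matrix.diagonal_mul_diagonal], by simp [Matrix.diagonal_mul_diagonal]⟩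

@[simp] theorem coe_dU (χ : D.Idx → Fˣ) :
    (dU χ : Matrix D.Idx D.Idx F) = Matrix.diagonal fun x => (χ x : F) := rfl

theorem dU_mul (χ ψ : D.Idx → Fˣ) : dU χ * dU ψ = dU (χ * ψ) :=
  Units.ext (by simp [Matrix.diagonal_mul_diagonal])

theorem dU_one : dU (1 : D.Idx → Fˣ) = 1 := Units.ext (by simp)

theorem dU_inv (χ : D.Idx → Fˣ) : (dU χ)⁻¹ = dU χ⁻¹ :=
  inv_eq_of_mul_eq_one_right (by rw [dU_mul, mul_inv_cancel, dU_one])

theorem dU_inj {χ ψ : D.Idx → Fˣ} (h : dU χ = dU ψ) : χ = ψ := by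
  funext x
  have := congrFun (congrArg Matrix.diag (congrArg Units.val h)) x
  exact Units.ext (by simpa [Matrix.diag] using this)

/-- `χ` is multiplicative on weights, with value `a` at the root `r` -/
def Scales (χ : D.Idx → Fˣ) (r : ℕ) (a : Fˣ) : Prop :=
  ∀ k row col, aMat D r k row col ≠ 0 → χ row = a ^ k * χ col

/-- `2(r,s)/(r,r)` -/
def pairingSum (D : ChevalleyDatum) (r s : ℕ) : ℤ :=
  ∑ m ∈ Finset.range D.rank, cor D r m * D.cartan m s

/-- exponents of `h_r(t)` on the coordinates -/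
def pe (r : ℕ) (x : D.Idx) : ℤ :=
  Sum.elim (fun _ => 0) (fun s : Fin D.nroots => pairingSum D r s) x

/-- the diagonal matrix `t^(pe r)` -/
def hDiag (r : ℕ) (t : Fˣ) : GL D.Idx F := dU fun x => t ^ pe r x

/-- the homomorphism `(c_m) ↦ ∏ h_{p_m}(c_m)` -/
def torus (D : ChevalleyDatum) (F : Type*) [Field F] : (Fin D.rank → Fˣ) →* GL D.Idx F where
  toFun c := dU fun x => ∏ m : Fin D.rank, c m ^ pe (D.simple m) x
  map_one' := by simp [← dU_one]; rfl
  map_mul' c d := by
    rw [dU_mul]
    congr 1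
    funext x
    simp [mul_zpow, Finset.prod_mul_distrib]

namespace Cert

variable {D : ChevalleyDatum} (C : Cert D) (F : Type*) [Field F]
include C

/-- induction over the roots from the fundamental ones by fundamental reflections -/
theorem root_induction {P : ℕ → Prop} (h0 : ∀ i < D.rank, P (D.simple i))
    (hw : ∀ i < D.rank, ∀ r < D.nroots, P r → P (C.w i r)) : ∀ r < D.nroots, P r := by
  have hpos : ∀ r < D.nroots, D.nroots / 2 ≤ r → P r := by
    intro r
    induction r using Nat.strong_induction_on with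
    | _ r ih =>
      intro hr hp
      obtain ⟨i, hi, rfl | ⟨h1, h2⟩⟩ := C.w_down r hr hp
      · exact h0 i hi
      · rw [← (C.w_lt i hi r hr).2]
        exact hw i hi _ (C.w_lt i hi r hr).1 (ih _ h2 (C.w_lt i hi r hr).1 h1)
  have hneg : ∀ r < D.nroots, D.nroots / 2 ≤ r → P (D.neg r) := by
    intro r
    induction r using Nat.strong_induction_on with
    | _ r ih =>
      intro hr hp
      obtain ⟨i, hi, rfl | ⟨h1, h2⟩⟩ := C.w_down r hr hp
      · have hs := (C.simple_lt i hi).1
        have e : C.w i (D.simple i) = D.neg (D.simple i) := by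
          refine C.eq_of_cf (C.w_lt i hi _ hs).1 (C.neg_lt hs) fun j hj => ?_
          rw [C.cf_w i hi _ hs j hj, C.cf_neg _ hs j hj, C.cf_simple i hi j hj, C.cartan_self i hi]
          split <;> norm_num
        exact e ▸ hw i hi _ hs (h0 i hi)
      · have hl := (C.w_lt i hi r hr).1
        rw [← (C.w_lt i hi _ (C.neg_lt hr)).2, C.w_neg hi hr]
        exact hw i hi _ (C.neg_lt hl) (ih _ h2 hl h1)
  intro r hr
  by_cases hp : D.nroots / 2 ≤ r
  · exact hpos r hr hp
  · rw [← C.neg_neg hr]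
    refine hneg _ (C.neg_lt hr) ?_
    have := C.two_half
    rw [C.neg_eq r hr]
    omega

theorem dU_conj_xU {χ : D.Idx → Fˣ} {r : ℕ} (hr : r < D.nroots) {a : Fˣ}
    (h : Scales χ r a) (t : F) :
    dU χ * C.xU F r t * (dU χ)⁻¹ = C.xU F r ((a : F) * t) := by
  rw [mul_inv_eq_iff_eq_mul]
  refine Units.ext ?_
  simp only [Units.val_mul, coe_dU, coe_xU, C.x_eq hr]
  ext row col
  simp only [Matrix.diagonal_mul, Matrix.mul_diagonal, xR, Matrix.of_apply, Finset.mul_sum,
    Finset.sum_mul]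
  refine Finset.sum_congr rfl fun k _ => ?_
  by_cases hk : aMat D r k row col = 0
  · simp [hk]
  · rw [h k row col hk]
    push_cast
    ring

/-- the character of the root lattice taking the value `c_m` at `p_m` -/
def chi (c : ℕ → Fˣ) : D.Idx → Fˣ := fun x => ∏ m ∈ Finset.range D.rank, c m ^ C.cfI x m

/-- the value at the root `r` of that character -/
def chiR (c : ℕ → Fˣ) (r : ℕ) : Fˣ := ∏ m ∈ Finset.range D.rank, c m ^ C.cf r m

theorem scales_chi (c : ℕ → Fˣ) {r : ℕ} (hr : r < D.nroots) :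
    Scales (C.chi F c) r (C.chiR F c r) := by
  intro k row col h
  simp only [chi, chiR, ← Finset.prod_pow, ← Finset.prod_mul_distrib]
  refine Finset.prod_congr rfl fun m hm => ?_
  rw [C.aMat_homog hr k row col h m (Finset.mem_range.1 hm), zpow_add, ← zpow_natCast,
    ← zpow_mul, mul_comm (C.cf r m)]

theorem pairing_w {i r s : ℕ} (hi : i < D.rank) (hr : r < D.nroots) (hs : s < D.nroots) :
    pairingSum D (C.w i r) s = pairingSum D r (C.w i s) := by
  unfold pairingSum
  rw [Finset.sum_congr rfl (g := fun m => cor D r m * D.cartan m s -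
      if m = i then (∑ n ∈ Finset.range D.rank, cor D r n * D.cartan n (D.simple i)) *
        D.cartan i s else 0) (fun m hm => by
      rw [C.cor_w i hi r hr m (Finset.mem_range.1 hm), list_sum_range_map]
      split
      · next h => subst h; ring
      · ring),
    Finset.sum_sub_distrib, Finset.sum_ite_eq', if_pos (Finset.mem_range.2 hi), Finset.sum_mul,
    ← Finset.sum_sub_distrib]
  refine Finset.sum_congr rfl fun m hm => ?_
  rw [C.cartan_w hi (Finset.mem_range.1 hm) hs]
  ring

theorem pairing_simple {i : ℕ} (hi : i < D.rank) (s : ℕ) :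
    pairingSum D (D.simple i) s = D.cartan i s := by
  unfold pairingSum
  rw [Finset.sum_eq_single i]
  · rw [C.cor_simple i hi i hi, if_pos rfl, one_mul]
  · intro m hm hne
    rw [C.cor_simple i hi m (Finset.mem_range.1 hm), if_neg hne, zero_mul]
  · simp [hi]

theorem nS_dU_conj {i : ℕ} (hi : i < D.rank) (χ : D.Idx → Fˣ)
    (h : ∀ a, χ (.inl a) = 1) :
    C.nS F i * dU χ * (C.nS F i)⁻¹ = dU
      (Sum.elim (fun _ => 1) fun s : Fin D.nroots => χ (.inr ⟨C.w i s, (C.w_lt i hi s s.isLt).1⟩)) := by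
  rw [mul_inv_eq_iff_eq_mul]
  refine Units.ext ?_
  simp only [Units.val_mul, coe_dU, C.coe_nS F hi]
  ext row col
  simp only [Matrix.diagonal_mul, Matrix.mul_diagonal, nR, Matrix.map_apply]
  rcases row with a | u <;> rcases col with b | s <;> simp [h]
  by_cases hu : (u : ℕ) = C.w i s
  · rw [if_pos hu, if_pos hu]
    have : (⟨C.w i u, (C.w_lt i hi u u.isLt).1⟩ : Fin D.nroots) = s :=
      Fin.ext (by simp only; rw [hu, (C.w_lt i hi s s.isLt).2])
    rw [this]
    ring
  · rw [if_neg hu, if_neg hu]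

theorem nU_simple (i : ℕ) (hi : i < D.rank) (t : Fˣ) :
    C.nU F (D.simple i) t =
      dU (C.chi F (fun m => if m = i then t else 1)) * C.nS F i *
        (dU (C.chi F (fun m => if m = i then t else 1)))⁻¹ := by
  set c : ℕ → Fˣ := fun m => if m = i then t else 1
  have hp := (C.simple_lt i hi).1
  have hv : ∀ r, C.chiR F c r = t ^ C.cf r i := fun r => by
    simp only [chiR, c]
    rw [Finset.prod_eq_single i] <;> intros <;> simp_all
  have hx : ∀ {r}, r < D.nroots → ∀ u, dU (C.chi F c) * C.xU F r u * (dU (C.chi F c))⁻¹ =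
      C.xU F r ((t ^ C.cf r i : Fˣ) * u) := fun hr u => by
    rw [C.dU_conj_xU F hr (C.scales_chi F c hr), hv]
  rw [nS, C.nU_eq, C.nU_eq]
  calc _ = (dU (C.chi F c) * C.xU F (D.simple i) 1 * (dU (C.chi F c))⁻¹) *
        (dU (C.chi F c) * C.xU F (D.neg (D.simple i)) (-1⁻¹) * (dU (C.chi F c))⁻¹) *
        (dU (C.chi F c) * C.xU F (D.simple i) 1 * (dU (C.chi F c))⁻¹) := by
        rw [hx hp, hx (C.neg_lt hp), C.cf_neg _ hp i hi, C.cf_simple i hi i hi]
        simp
    _ = _ := by group

theorem hU_simple {i : ℕ} (hi : i < D.rank) (t : Fˣ) :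
    C.hU F (D.simple i) t = hDiag (D.simple i) t := by
  set c : ℕ → Fˣ := fun m => if m = i then t else 1
  have hv : ∀ x, C.chi F c x = t ^ C.cfI x i := fun x => by
    simp only [chi, c]
    rw [Finset.prod_eq_single i] <;> intros <;> simp_all
  rw [C.hU_eq, C.nU_simple F i hi t, ← C.nU_inv F (D.simple i) 1, ← nS, mul_assoc, mul_assoc,
    ← mul_assoc (C.nS F i), dU_inv, C.nS_dU_conj F hi (C.chi F c)⁻¹ (fun a => by simp [hv]),
    dU_mul, hDiag]
  congr 1
  funext x
  rcases x with a | s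
  · simp [chi, pe]
  · have e1 : C.chi F (fun m => if m = i then t else 1) (.inr s) = t ^ C.cf s i := hv _
    simp only [Pi.mul_apply, Pi.inv_apply, Sum.elim_inr, hv, cfI_inr, pe, C.pairing_simple hi, e1]
    rw [← zpow_neg, ← zpow_add, C.cf_w i hi s s.isLt i hi, if_pos rfl]
    congr 1
    ring

theorem nS_conj_hDiag {i r : ℕ} (hi : i < D.rank) (hr : r < D.nroots) (t : Fˣ) :
    C.nS F i * hDiag r t * (C.nS F i)⁻¹ = hDiag (C.w i r) t := by
  rw [hDiag, C.nS_dU_conj F hi _ (fun a => by simp [pe]), hDiag]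
  congr 1
  funext x
  rcases x with a | s
  · simp [pe]
  · simp [pe, C.pairing_w hi hr s.isLt]

/-- `h_r(t)` is the diagonal matrix with exponents `2(r,s)/(r,r)` -/
theorem hU_diag : ∀ {r : ℕ}, r < D.nroots → ∀ t : Fˣ, C.hU F r t = hDiag r t := by
  refine fun {r} hr => C.root_induction (P := fun r => ∀ t : Fˣ, C.hU F r t = hDiag r t)
    (fun i hi => C.hU_simple F hi) ?_ r hr
  intro i hi r hr ih
  have key : ∀ t : Fˣ, C.hU F (C.w i r) ((C.sg i r : F) * t) * (C.hU F (C.w i r) (C.sg i r : F))⁻¹ =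
      hDiag (C.w i r) t := by
    intro t
    rw [← C.nS_conj_hDiag F hi hr t, ← ih t, C.hU_eq, C.hU_eq, C.hU_eq, mul_inv_rev, C.nU_inv,
      C.nU_inv, _root_.neg_neg]
    calc C.nU F (C.w i r) ((C.sg i r : F) * t) * C.nU F (C.w i r) (-1) *
          (C.nU F (C.w i r) 1 * C.nU F (C.w i r) (-(C.sg i r : F)))
        = C.nU F (C.w i r) ((C.sg i r : F) * t) * C.nU F (C.w i r) ((C.sg i r : F) * -1) := by
          rw [← C.nU_inv F _ 1]; group
      _ = _ := by rw [← C.nS_conj_nU F hi hr, ← C.nS_conj_nU F hi hr]; group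
  intro t
  rcases C.sg_pm i r with h | h
  · simpa [h, C.hU_one] using key t
  · have h1 := key (-1)
    simp [h, C.hU_one] at h1
    have h2 := key (-t)
    simp [h] at h2
    rw [mul_inv_eq_iff_eq_mul] at h2
    have h3 : C.hU F (C.w i r) (-1 : F) = (hDiag (C.w i r) (-1))⁻¹ := by
      rw [← h1, inv_inv]
    rw [h2, h3, hDiag, hDiag, hDiag, dU_inv, dU_mul]
    congr 1
    funext x
    simp only [Pi.mul_apply, Pi.inv_apply]
    rw [← inv_zpow, inv_neg, inv_one, ← mul_zpow]
    simp

theorem hU_mul {r : ℕ} (hr : r < D.nroots) (t u : Fˣ) :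
    C.hU F r ((t * u : Fˣ) : F) = C.hU F r t * C.hU F r u := by
  rw [C.hU_diag F hr, C.hU_diag F hr, C.hU_diag F hr, hDiag, hDiag, hDiag, dU_mul]
  congr 1
  funext x
  exact mul_zpow t u _

theorem nS_conj_hU {i r : ℕ} (hi : i < D.rank) (hr : r < D.nroots) (t : Fˣ) :
    C.nS F i * C.hU F r t * (C.nS F i)⁻¹ = C.hU F (C.w i r) t := by
  rw [C.hU_diag F hr, C.hU_diag F (C.w_lt i hi r hr).1, C.nS_conj_hDiag F hi hr]

theorem torus_eq_prod (c : Fin D.rank → Fˣ) :
    torus D F c = ((List.finRange D.rank).map fun m : Fin D.rank => C.hU F (D.simple (m : ℕ)) (c m : F)).prod := by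
  have : ∀ l : List (Fin D.rank),
      (l.map fun m : Fin D.rank => C.hU F (D.simple (m : ℕ)) (c m : F)).prod =
        dU fun x => (l.map fun m : Fin D.rank => c m ^ pe (D.simple (m : ℕ)) x).prod := by
    intro l
    induction l with
    | nil => simp [← dU_one]; rfl
    | cons m l ih =>
      simp only [List.map_cons, List.prod_cons, ih, C.hU_diag F (C.simple_lt m m.isLt).1, hDiag,
        dU_mul]
      rfl
  rw [this]
  show dU _ = _
  congr 1

theorem hU_eq_torus {r : ℕ} (hr : r < D.nroots) (t : Fˣ) :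
    C.hU F r t = torus D F fun m => t ^ cor D r m := by
  rw [C.hU_diag F hr]
  show dU _ = dU _
  congr 1
  funext x
  rcases x with a | s
  · simp [pe]
  · simp only [pe, Sum.elim_inr, pairingSum,
      Finset.sum_range (fun m => cor D r m * D.cartan m s)]
    have hsum : ∀ (S : Finset (Fin D.rank)) (f : Fin D.rank → ℤ),
        t ^ (∑ m ∈ S, f m) = ∏ m ∈ S, t ^ f m := by
      intro S f
      classical
      induction S using Finset.induction with
      | empty => simp
      | insert a S ha ih => rw [Finset.sum_insert ha, Finset.prod_insert ha, zpow_add, ih]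
    rw [hsum]
    refine Finset.prod_congr rfl fun m _ => ?_
    rw [zpow_mul]
    simp [← C.pairing_simple m.isLt, pairingSum]

theorem diagonalSubgroup_eq : D.diagonalSubgroup F = (torus D F).range := by
  refine le_antisymm ?_ ?_
  · rw [diagonalSubgroup, Subgroup.closure_le]
    rintro g ⟨r, t, hr, ht, hg⟩
    obtain rfl : g = C.hU F r t := Units.ext (hg.trans (C.coe_hU F r t).symm)
    exact ⟨_, (C.hU_eq_torus F hr (Units.mk0 t ht)).symm⟩
  · rintro g ⟨c, rfl⟩
    rw [C.torus_eq_prod]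
    refine Subgroup.list_prod_mem _ fun g hg => ?_
    simp only [List.mem_map] at hg
    obtain ⟨m, -, rfl⟩ := hg
    exact Subgroup.subset_closure ⟨_, _, (C.simple_lt m m.isLt).1, (c m).ne_zero, C.coe_hU F _ _⟩

theorem hU_mem {r : ℕ} (hr : r < D.nroots) {t : F} (ht : t ≠ 0) :
    C.hU F r t ∈ D.diagonalSubgroup F :=
  Subgroup.subset_closure ⟨r, t, hr, ht, C.coe_hU F r t⟩

theorem torus_wordMat (c : ℕ → F) (v : Fin D.rank → Fˣ) (h : ∀ m : Fin D.rank, c m = v m) :
    (torus D F v : Matrix D.Idx D.Idx F) =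
      D.wordMat F ((List.range D.rank).flatMap fun i => D.hWord (D.simple i) (c i)) := by
  rw [C.torus_eq_prod, ← List.map_coe_finRange_eq_range, List.flatMap_map, ← C.coe_wU F]
  congr 1
  induction List.finRange D.rank with
  | nil => rfl
  | cons m l ih =>
    rw [List.map_cons, List.prod_cons, List.flatMap_cons, C.wU_append, ih, h m]
    rfl

theorem pe_eq {r : ℕ} (x : D.Idx) :
    pe r x = ∑ j ∈ Finset.range D.rank, C.cfI x j * pairingSum D r (D.simple j) := by
  rcases x with a | s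
  · simp [pe]
  · simp only [pe, Sum.elim_inr, cfI_inr, pairingSum, Finset.mul_sum]
    rw [Finset.sum_comm]
    refine Finset.sum_congr rfl fun m hm => ?_
    rw [C.cartan_lin m (Finset.mem_range.1 hm) s s.isLt, list_sum_range_map, Finset.mul_sum]
    exact Finset.sum_congr rfl fun j _ => by ring

theorem scales_hDiag {r s : ℕ} (hs : s < D.nroots) (t : Fˣ) :
    Scales (fun x : D.Idx => t ^ pe r x) s (t ^ pairingSum D r s) := by
  intro k row col h
  have e : pe r (Sum.inr ⟨s, hs⟩ : D.Idx) = pairingSum D r s := rfl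
  rw [C.pe_eq] at e
  simp only [← e, C.pe_eq (r := r), ← zpow_natCast, ← zpow_mul, ← zpow_add, Finset.sum_mul,
    ← Finset.sum_add_distrib]
  congr 1
  refine Finset.sum_congr rfl fun j hj => ?_
  rw [C.aMat_homog hs k row col h j (Finset.mem_range.1 hj)]
  simp only [cfI_inr]
  ring

theorem hU_conj_xU {r s : ℕ} (hr : r < D.nroots) (hs : s < D.nroots) (c : Fˣ) (t : F) :
    C.hU F r c * C.xU F s t * (C.hU F r c)⁻¹ =
      C.xU F s (((c ^ pairingSum D r s : Fˣ) : F) * t) := by
  rw [C.hU_diag F hr, hDiag]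
  exact C.dU_conj_xU F hs (C.scales_hDiag F hs c) t

end Cert

end Cfsg.Agent.Chevalley
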