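/-
Root elements, monomial and diagonal elements under a homomorphism of fields.
-/
import Cfsg.Agent.Chevalley.Torus

set_option autoImplicit false

namespace Cfsg.Agent.Chevalley

open Cfsg.Lie Cfsg.Lie.ChevalleyDatum

namespace Cert

variable {D : ChevalleyDatum} (C : Cert D) {F : Type*} [Field F] {E : Type*} [Field E] (f : F →+* E)
include C

theorem map_xU (r : ℕ) (t : F) :
    Matrix.GeneralLinearGroup.map f (C.xU F r t) = C.xU E r (f t) := by
  refine Units.ext ?_
  show ((C.xU F r t : GL D.Idx F) : Matrix D.Idx D.Idx F).map f = D.x E r (f t)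
  rw [coe_xU]
  by_cases hr : r < D.nroots
  · rw [C.x_eq hr, C.x_eq hr, xR_map]
  · rw [ChevalleyDatum.x, dif_neg hr, ChevalleyDatum.x, dif_neg hr]
    exact Matrix.map_one f (map_zero f) (map_one f)

theorem map_wU (w : List (ℕ × F)) :
    Matrix.GeneralLinearGroup.map f (C.wU F w) = C.wU E (w.map fun p => (p.1, f p.2)) := by
  induction w with
  | nil => rw [C.wU_nil, map_one, List.map_nil, C.wU_nil]
  | cons p w ih => rw [C.wU_cons, map_mul, C.map_xU, ih, List.map_cons, C.wU_cons]

theorem map_nU (r : ℕ) (t : F) :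
    Matrix.GeneralLinearGroup.map f (C.nU F r t) = C.nU E r (f t) := by
  rw [C.nU_eq, map_mul, map_mul, C.map_xU, C.map_xU, map_neg, map_inv₀, C.nU_eq]

theorem map_hU (r : ℕ) (t : F) :
    Matrix.GeneralLinearGroup.map f (C.hU F r t) = C.hU E r (f t) := by
  rw [C.hU_eq, map_mul, C.map_nU, C.map_nU, map_neg, map_one, C.hU_eq]

theorem map_nS (i : ℕ) : Matrix.GeneralLinearGroup.map f (C.nS F i) = C.nS E i := by
  rw [nS, C.map_nU, map_one]; rfl

theorem map_mem_pos {g : GL D.Idx F} (hg : g ∈ D.posUnipotent F) :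
    Matrix.GeneralLinearGroup.map f g ∈ D.posUnipotent E := by
  have : D.posUnipotent F ≤ (D.posUnipotent E).comap (Matrix.GeneralLinearGroup.map f) := by
    refine (Subgroup.closure_le _).2 ?_
    rintro x ⟨r, t, hr, hx⟩
    rw [← C.coe_xU] at hx
    rw [SetLike.mem_coe, Subgroup.mem_comap, Units.ext hx, C.map_xU]
    exact Subgroup.subset_closure ⟨r, f t, hr, rfl⟩
  exact this hg

theorem map_mem_diag {g : GL D.Idx F} (hg : g ∈ D.diagonalSubgroup F) :
    Matrix.GeneralLinearGroup.map f g ∈ D.diagonalSubgroup E := by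
  have : D.diagonalSubgroup F ≤ (D.diagonalSubgroup E).comap (Matrix.GeneralLinearGroup.map f) := by
    refine (Subgroup.closure_le _).2 ?_
    rintro x ⟨r, t, hr, ht, hx⟩
    rw [← C.coe_hU] at hx
    rw [SetLike.mem_coe, Subgroup.mem_comap, Units.ext hx, C.map_hU]
    exact Subgroup.subset_closure ⟨r, f t, hr, (map_ne_zero f).2 ht, C.coe_hU E r (f t)⟩
  exact this hg

theorem map_mem_group {g : GL D.Idx F} (hg : g ∈ D.group F) :
    Matrix.GeneralLinearGroup.map f g ∈ D.group E := by
  have : D.group F ≤ (D.group E).comap (Matrix.GeneralLinearGroup.map f) := by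
    rw [C.group_eq, Subgroup.closure_le]
    rintro _ ⟨r, t, _, rfl⟩
    rw [SetLike.mem_coe, Subgroup.mem_comap, C.map_xU]
    exact C.xU_mem_group E r (f t)
  exact this hg

end Cert

end Cfsg.Agent.Chevalley
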