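/-
Products of the fundamental monomial elements: exchange, and the kernel of the action on roots.
-/
import Cfsg.Agent.Chevalley.Torus

set_option autoImplicit false

namespace Cfsg.Agent.Chevalley

open Cfsg.Lie Cfsg.Lie.ChevalleyDatum
open scoped Matrix

/-- all letters of the word are node indices -/
def Valid (D : ChevalleyDatum) (L : List ℕ) : Prop := ∀ i ∈ L, i < D.rank

theorem valid_cons {D : ChevalleyDatum} {j : ℕ} {L : List ℕ} :
    Valid D (j :: L) ↔ j < D.rank ∧ Valid D L := by simp [Valid]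

namespace Cert

variable {D : ChevalleyDatum} (C : Cert D) (F : Type*) [Field F]
include C

/-- product of fundamental monomial elements -/
def nW (L : List ℕ) : GL D.Idx F := (L.map (C.nS F)).prod

/-- action of a word of fundamental reflections on root indices -/
def wA (L : List ℕ) (r : ℕ) : ℕ := L.foldr C.w r

theorem nW_cons (j : ℕ) (L : List ℕ) : C.nW F (j :: L) = C.nS F j * C.nW F L := by simp [nW]

theorem nW_append (L M : List ℕ) : C.nW F (L ++ M) = C.nW F L * C.nW F M := by simp [nW]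

theorem wA_cons (j : ℕ) (L : List ℕ) (r : ℕ) : C.wA (j :: L) r = C.w j (C.wA L r) := rfl

theorem wA_append (L M : List ℕ) (r : ℕ) : C.wA (L ++ M) r = C.wA L (C.wA M r) := by
  simp [wA, List.foldr_append]

theorem wA_lt : ∀ {L : List ℕ}, Valid D L → ∀ {r : ℕ}, r < D.nroots → C.wA L r < D.nroots
  | [], _, _, hr => hr
  | _ :: L, hL, _, hr =>
    (C.w_lt _ (valid_cons.1 hL).1 _ (wA_lt (L := L) (valid_cons.1 hL).2 hr)).1

theorem wA_neg : ∀ {L : List ℕ}, Valid D L → ∀ {r : ℕ}, r < D.nroots →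
    C.wA L (D.neg r) = D.neg (C.wA L r)
  | [], _, _, _ => rfl
  | j :: L, hL, _, hr => by
    have h := valid_cons.1 hL
    rw [C.wA_cons, C.wA_cons, wA_neg h.2 hr, C.w_neg h.1 (C.wA_lt h.2 hr)]

theorem cartan_comb {j x y z : ℕ} {a : ℤ} (hj : j < D.rank) (hx : x < D.nroots)
    (hy : y < D.nroots) (hz : z < D.nroots)
    (h : ∀ m < D.rank, C.cf x m = C.cf y m - a * C.cf z m) :
    D.cartan j x = D.cartan j y - a * D.cartan j z := by
  rw [C.cartan_lin j hj x hx, C.cartan_lin j hj y hy, C.cartan_lin j hj z hz, list_sum_range_map,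
    list_sum_range_map, list_sum_range_map, Finset.mul_sum, ← Finset.sum_sub_distrib]
  refine Finset.sum_congr rfl fun m hm => ?_
  rw [h m (Finset.mem_range.1 hm)]
  ring

theorem wA_comb : ∀ {L : List ℕ}, Valid D L → ∀ {x y z : ℕ} {a : ℤ}, x < D.nroots →
    y < D.nroots → z < D.nroots → (∀ m < D.rank, C.cf x m = C.cf y m - a * C.cf z m) →
    ∀ m < D.rank, C.cf (C.wA L x) m = C.cf (C.wA L y) m - a * C.cf (C.wA L z) m
  | [], _, _, _, _, _, _, _, _, h => h
  | j :: L, hL, x, y, z, a, hx, hy, hz, h => by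
    have hv := valid_cons.1 hL
    have ih := wA_comb hv.2 hx hy hz h
    have h1 := C.wA_lt hv.2 hx
    have h2 := C.wA_lt hv.2 hy
    have h3 := C.wA_lt hv.2 hz
    intro m hm
    simp only [C.wA_cons]
    rw [C.cf_w j hv.1 _ h1 m hm, C.cf_w j hv.1 _ h2 m hm, C.cf_w j hv.1 _ h3 m hm, ih m hm,
      C.cartan_comb hv.1 h1 h2 h3 ih]
    split <;> ring

theorem wA_pairing : ∀ {L : List ℕ}, Valid D L → ∀ {r s : ℕ}, r < D.nroots → s < D.nroots →
    pairingSum D (C.wA L r) (C.wA L s) = pairingSum D r s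
  | [], _, _, _, _, _ => rfl
  | j :: L, hL, r, s, hr, hs => by
    have hv := valid_cons.1 hL
    rw [C.wA_cons, C.wA_cons, C.pairing_w hv.1 (C.wA_lt hv.2 hr)
      (C.w_lt j hv.1 _ (C.wA_lt hv.2 hs)).1, (C.w_lt j hv.1 _ (C.wA_lt hv.2 hs)).2,
      wA_pairing hv.2 hr hs]

theorem w_simple {i : ℕ} (hi : i < D.rank) : C.w i (D.simple i) = D.neg (D.simple i) := by
  have hs := (C.simple_lt i hi).1
  refine C.eq_of_cf (C.w_lt i hi _ hs).1 (C.neg_lt hs) fun j hj => ?_
  rw [C.cf_w i hi _ hs j hj, C.cf_neg _ hs j hj, C.cf_simple i hi j hj, C.cartan_self i hi]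
  split <;> norm_num

theorem nW_conj_nU : ∀ {L : List ℕ}, Valid D L → ∀ {r : ℕ}, r < D.nroots → ∀ t : F,
    ∃ e : F, (e = 1 ∨ e = -1) ∧
      C.nW F L * C.nU F r t * (C.nW F L)⁻¹ = C.nU F (C.wA L r) (e * t)
  | [], _, r, _, t => ⟨1, Or.inl rfl, by simp [nW, wA]⟩
  | j :: L, hL, r, hr, t => by
    have hv := valid_cons.1 hL
    obtain ⟨e, he, h⟩ := nW_conj_nU hv.2 hr t
    refine ⟨(C.sg j (C.wA L r) : F) * e, ?_, ?_⟩
    · rcases C.sg_pm j (C.wA L r) with h1 | h1 <;> rcases he with h2 | h2 <;> simp [h1, h2]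
    · rw [C.nW_cons, mul_assoc _ e, C.wA_cons, ← C.nS_conj_nU F hv.1 (C.wA_lt hv.2 hr), ← h]
      group

theorem nS_mul_nS_mem {i : ℕ} (hi : i < D.rank) : C.nS F i * C.nS F i ∈ D.diagonalSubgroup F := by
  have h : C.hU F (D.simple i) (-1) = (C.nS F i * C.nS F i)⁻¹ := by
    rw [C.hU_eq, nS, mul_inv_rev, C.nU_inv]
  exact inv_mem_iff.1 (h ▸ C.hU_mem F (C.simple_lt i hi).1 (neg_ne_zero.2 one_ne_zero))

theorem nS_conj_mem {i : ℕ} (hi : i < D.rank) {g : GL D.Idx F}
    (hg : g ∈ D.diagonalSubgroup F) : C.nS F i * g * (C.nS F i)⁻¹ ∈ D.diagonalSubgroup F := by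
  refine Subgroup.closure_induction
    (p := fun g _ => C.nS F i * g * (C.nS F i)⁻¹ ∈ D.diagonalSubgroup F) ?_ ?_ ?_ ?_ hg
  · rintro g ⟨r, t, hr, ht, h⟩
    obtain rfl : g = C.hU F r t := Units.ext (h.trans (C.coe_hU F r t).symm)
    rw [show C.hU F r t = C.hU F r ((Units.mk0 t ht : Fˣ) : F) from rfl, C.nS_conj_hU F hi hr]
    exact C.hU_mem F (C.w_lt i hi r hr).1 ht
  · simp
  · intro x y _ _ hx hy
    rw [show C.nS F i * (x * y) * (C.nS F i)⁻¹ =
      (C.nS F i * x * (C.nS F i)⁻¹) * (C.nS F i * y * (C.nS F i)⁻¹) by group]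
    exact mul_mem hx hy
  · intro x _ hx
    rw [show C.nS F i * x⁻¹ * (C.nS F i)⁻¹ = (C.nS F i * x * (C.nS F i)⁻¹)⁻¹ by group]
    exact inv_mem hx

/-- exchange: a word sending `p_i` to a negative root can be shortened after multiplying by
`n_i`, up to the diagonal subgroup -/
theorem exchange : ∀ {L : List ℕ}, Valid D L → ∀ {i : ℕ}, i < D.rank →
    C.wA L (D.simple i) < D.nroots / 2 →
    ∃ L', Valid D L' ∧ L'.length + 1 = L.length ∧
      (∃ h ∈ D.diagonalSubgroup F, C.nW F L * C.nS F i = h * C.nW F L') ∧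
      ∀ r < D.nroots, C.wA L (C.w i r) = C.wA L' r
  | [], _, i, hi, h => absurd h (by have := (C.simple_lt i hi).2; simp [wA]; omega)
  | j :: L, hL, i, hi, h => by
    have hv := valid_cons.1 hL
    have hp := (C.simple_lt i hi).1
    have hq := C.wA_lt hv.2 hp
    by_cases hneg : C.wA L (D.simple i) < D.nroots / 2
    · obtain ⟨L', hv', hlen, ⟨g, hg, he⟩, hact⟩ := exchange hv.2 hi hneg
      refine ⟨j :: L', valid_cons.2 ⟨hv.1, hv'⟩, by simp [hlen],
        ⟨C.nS F j * g * (C.nS F j)⁻¹, C.nS_conj_mem F hv.1 hg, ?_⟩, fun r hr => ?_⟩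
      · rw [C.nW_cons, C.nW_cons, mul_assoc, he]
        group
      · rw [C.wA_cons, C.wA_cons, hact r hr]
    · have hqj : C.wA L (D.simple i) = D.simple j := by
        by_contra hne
        have := C.w_pos j hv.1 _ hq (by omega) hne
        rw [C.wA_cons] at h
        omega
      obtain ⟨e, he, hc⟩ := C.nW_conj_nU F hv.2 hp (1 : F)
      rw [hqj, mul_one, ← nS, mul_inv_eq_iff_eq_mul] at hc
      refine ⟨L, hv.2, by simp, ⟨C.nS F j * C.nU F (D.simple j) e, ?_, ?_⟩, fun r hr => ?_⟩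
      · rcases he with rfl | rfl
        · exact C.nS_mul_nS_mem F hv.1
        · rw [nS, ← C.nU_inv, mul_inv_cancel]
          exact one_mem _
      · rw [C.nW_cons, mul_assoc, hc, mul_assoc]
      · have hw := C.w_lt i hi r hr
        have hlt := C.wA_lt hv.2 hr
        have hcf := C.wA_comb hv.2 (a := D.cartan i r) hw.1 hr hp (fun m hm => by
          rw [C.cf_w i hi r hr m hm, C.cf_simple i hi m hm]
          split <;> ring)
        have hA : D.cartan j (C.wA L r) = D.cartan i r := by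
          rw [← C.pairing_simple hv.1, ← hqj, C.wA_pairing hv.2 hp hr, C.pairing_simple hi]
        have key : C.wA L (C.w i r) = C.w j (C.wA L r) := by
          refine C.eq_of_cf (C.wA_lt hv.2 hw.1) (C.w_lt j hv.1 _ hlt).1 fun m hm => ?_
          rw [hcf m hm, C.cf_w j hv.1 _ hlt m hm, hqj, C.cf_simple j hv.1 m hm, hA]
          split <;> ring
        rw [C.wA_cons, key, (C.w_lt j hv.1 _ hlt).2]

/-- a word acting trivially on the roots gives an element of the diagonal subgroup -/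
theorem nW_mem_of_fix {L : List ℕ} (hL : Valid D L)
    (h : ∀ r < D.nroots, C.wA L r = r) : C.nW F L ∈ D.diagonalSubgroup F := by
  induction hn : L.length using Nat.strong_induction_on generalizing L with
  | _ n ih =>
    rcases List.eq_nil_or_concat L with rfl | ⟨L₁, i, rfl⟩
    · simp [nW]
    · rw [List.concat_eq_append] at hL h hn ⊢
      have hv : Valid D L₁ := fun m hm => hL m (by simp [hm])
      have hi : i < D.rank := hL i (by simp)
      have hp := C.simple_lt i hi
      have h1 : C.wA L₁ (D.neg (D.simple i)) = D.simple i := by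
        have := h _ hp.1
        rwa [C.wA_append, show C.wA [i] (D.simple i) = C.w i (D.simple i) from rfl,
          C.w_simple hi] at this
      have h2 : C.wA L₁ (D.simple i) < D.nroots / 2 := by
        rw [← C.neg_neg (C.wA_lt hv hp.1), ← C.wA_neg hv hp.1, h1, C.neg_eq _ hp.1]
        have := C.two_half
        omega
      obtain ⟨L', hv', hlen, ⟨g, hg, he⟩, hact⟩ := C.exchange F hv hi h2
      have hfix : ∀ r < D.nroots, C.wA L' r = r := fun r hr => by
        rw [← hact r hr]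
        have := h r hr
        rwa [C.wA_append] at this
      rw [C.nW_append, show C.nW F [i] = C.nS F i by simp [nW], he]
      refine mul_mem hg (ih L'.length ?_ hv' hfix rfl)
      rw [List.length_append, List.length_singleton] at hn
      omega

theorem nU_one_mem {r : ℕ} (hr : r < D.nroots) :
    ∀ S : Subgroup (GL D.Idx F), (∀ i < D.rank, C.nS F i ∈ S) → C.nU F r 1 ∈ S := by
  refine C.root_induction (P := fun r => ∀ S : Subgroup (GL D.Idx F),
    (∀ i < D.rank, C.nS F i ∈ S) → C.nU F r 1 ∈ S) (fun i hi S hS => hS i hi) ?_ r hr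
  intro i hi r hr ih S hS
  have h : C.nU F (C.w i r) (C.sg i r : F) ∈ S := by
    have := mul_mem (mul_mem (hS i hi) (ih S hS)) (inv_mem (hS i hi))
    rwa [C.nS_conj_nU F hi hr, mul_one] at this
  rcases C.sg_pm i r with e | e
  · simpa [e] using h
  · rw [e, Int.cast_neg, Int.cast_one, ← C.nU_inv] at h
    exact inv_mem_iff.1 h

theorem monomialSubgroup_eq : D.monomialSubgroup F =
    D.diagonalSubgroup F ⊔ Subgroup.closure {g | ∃ i < D.rank, g = C.nS F i} := by
  refine le_antisymm (sup_le le_sup_left ?_) (sup_le le_sup_left ?_)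
  · rw [Subgroup.closure_le]
    rintro g ⟨r, hr, hg⟩
    obtain rfl : g = C.nU F r 1 := Units.ext (hg.trans (C.coe_nU F r 1).symm)
    exact Subgroup.mem_sup_right
      (C.nU_one_mem F hr _ fun i hi => Subgroup.subset_closure ⟨i, hi, rfl⟩)
  · rw [Subgroup.closure_le]
    rintro g ⟨i, hi, rfl⟩
    exact Subgroup.mem_sup_right
      (Subgroup.subset_closure ⟨_, (C.simple_lt i hi).1, C.coe_nU F _ _⟩)

theorem monomial_normalizes : D.monomialSubgroup F ≤
    Subgroup.normalizer (D.diagonalSubgroup F : Set (GL D.Idx F)) := by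
  rw [C.monomialSubgroup_eq F]
  refine sup_le Subgroup.le_normalizer ?_
  rw [Subgroup.closure_le]
  rintro g ⟨i, hi, rfl⟩
  rw [SetLike.mem_coe, Subgroup.mem_normalizer_iff]
  intro h
  refine ⟨fun hh => C.nS_conj_mem F hi hh, fun hh => ?_⟩
  have h2 := C.nS_conj_mem F hi hh
  have hs := C.nS_mul_nS_mem F hi
  have := mul_mem (mul_mem (inv_mem hs) h2) hs
  simpa [mul_assoc] using this

theorem diag_conj_xU {g : GL D.Idx F} (hg : g ∈ D.diagonalSubgroup F) :
    ∀ r < D.nroots, ∀ t, ∃ t', g * C.xU F r t * g⁻¹ = C.xU F r t' := by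
  rw [C.diagonalSubgroup_eq] at hg
  obtain ⟨c, rfl⟩ := hg
  rw [C.torus_eq_prod]
  intro r hr
  induction List.finRange D.rank with
  | nil => exact fun t => ⟨t, by simp⟩
  | cons m l ih =>
    intro t
    obtain ⟨t', h⟩ := ih t
    refine ⟨((c m ^ pairingSum D (D.simple (m : ℕ)) r : Fˣ) : F) * t', ?_⟩
    rw [← C.hU_conj_xU F (C.simple_lt m m.isLt).1 hr, ← h, List.map_cons, List.prod_cons]
    group

theorem diag_off {g : GL D.Idx F} (hg : g ∈ D.diagonalSubgroup F) {a b : D.Idx} (hab : a ≠ b) :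
    (g : Matrix D.Idx D.Idx F) a b = 0 := by
  rw [C.diagonalSubgroup_eq] at hg
  obtain ⟨c, rfl⟩ := hg
  simp [torus, hab]

theorem diag_inl {g : GL D.Idx F} (hg : g ∈ D.diagonalSubgroup F) (i : Fin D.rank) :
    (g : Matrix D.Idx D.Idx F) (.inl i) (.inl i) = 1 := by
  rw [C.diagonalSubgroup_eq] at hg
  obtain ⟨c, rfl⟩ := hg
  simp [torus, pe]

end Cert

end Cfsg.Agent.Chevalley
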