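/-
The rank one presentation of `SL₂` over an arbitrary field, given that the torus elements multiply;
the proof of injectivity follows the one for finite fields.
-/
import Cfsg.Agent.H54.SL2Presentation
import Cfsg.Agent.H87.SL2Pair

set_option autoImplicit false

namespace Cfsg.Agent.Chevalley.SL2Hom

open Cfsg.Agent.H54.Presentation

variable {K : Type*} [Field K] {G : Type*} [Group G] {x y : K → G} (R : SL2Rels x y)
  (φ : G →* Matrix.SpecialLinearGroup (Fin 2) K)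
  (hx : ∀ t, (φ (x t) : Matrix (Fin 2) (Fin 2) K) = !![1, t; 0, 1])
  (hy : ∀ t, (φ (y t) : Matrix (Fin 2) (Fin 2) K) = !![1, 0; t, 1])
  (hgen : Subgroup.closure (Set.range x ∪ Set.range y) = ⊤)

local notation "w" => wEl x y
local notation "h" => SL2Rels.hEl x y

include R hx hy hgen

theorem injective_of_mul (hmul : ∀ t u : Kˣ, h (t : K) * h (u : K) = h ((t * u : Kˣ) : K)) :
    Function.Injective φ := by
  rw [← MonoidHom.ker_eq_bot_iff, eq_bot_iff]
  classical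
  let T : Kˣ →* G :=
    { toFun := fun t => h (t : K)
      map_one' := by rw [Units.val_one, R.h_one]
      map_mul' := fun a b => (hmul a b).symm }
  have hxT : ∀ (t : Kˣ) u, T t * x u = x ((t : K) ^ 2 * u) * T t := fun t u =>
    mul_inv_eq_iff_eq_mul.1 (R.h_conj_x t.ne_zero u)
  have hwT : ∀ t : Kˣ, w 1 * T t = T t⁻¹ * w 1 := fun t =>
    mul_inv_eq_iff_eq_mul.1 ((R.w1_conj_h t.ne_zero).trans (by rw [← Units.val_inv_eq_inv_val]; rfl))
  let S : Set G := {g | ∃ u t, g = x u * T t} ∪ {g | ∃ v t u, g = x v * T t * w 1 * x u}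
  have hSx : ∀ u, ∀ g ∈ S, x u * g ∈ S := by
    rintro u g (⟨v, t, rfl⟩ | ⟨v, t, r, rfl⟩)
    · exact Or.inl ⟨u + v, t, by rw [← mul_assoc, R.x_add]⟩
    · exact Or.inr ⟨u + v, t, r, by simp only [← mul_assoc, R.x_add]⟩
  have hST : ∀ s, ∀ g ∈ S, T s * g ∈ S := by
    rintro s g (⟨v, t, rfl⟩ | ⟨v, t, r, rfl⟩)
    · exact Or.inl ⟨_, s * t, by rw [← mul_assoc, hxT, mul_assoc, ← map_mul]⟩
    · exact Or.inr ⟨_, s * t, r, by simp only [← mul_assoc, hxT]; rw [mul_assoc (x _) (T s), ← map_mul]⟩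
  have hw2 : w 1 * w 1 = T (-1) := by
    have e : T (-1) * T (-1) = 1 := by rw [← map_mul]; simp
    rw [mul_eq_one_iff_eq_inv.1 e]
    show _ = (h (((-1 : Kˣ)) : K))⁻¹
    rw [SL2Rels.hEl, Units.val_neg, Units.val_one, mul_inv_rev, R.w_inv, neg_neg]
  have eqy : ∀ s : Kˣ, y (s : K) = x ((s : K)⁻¹) * T (-s⁻¹) * w 1 * x ((s : K)⁻¹) := fun s => by
    have : w (-(s : K)⁻¹) = T (-s⁻¹) * w 1 := (R.w_eq _).trans (by simp [T])
    rw [mul_assoc (x _) (T _), ← this, wEl]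
    simp only [← mul_assoc, R.x_add, add_neg_cancel, R.x_zero, one_mul]
    rw [mul_assoc, R.x_add, neg_add_cancel, R.x_zero, mul_one, inv_neg, inv_inv, neg_neg]
  have hTx : ∀ (a : K) (t : Kˣ), x a * T t = T t * x (((t⁻¹ : Kˣ) : K) ^ 2 * a) := fun a t => by
    rw [hxT]; congr 2
    rw [← mul_assoc, ← mul_pow, ← Units.val_mul, mul_inv_cancel, Units.val_one, one_pow, one_mul]
  have hSw : ∀ g ∈ S, w 1 * g ∈ S := by
    rintro g (⟨v, t, rfl⟩ | ⟨v, t, r, rfl⟩)
    · exact Or.inr ⟨0, t⁻¹, ((t⁻¹ : Kˣ) : K) ^ 2 * v, by rw [hTx, ← mul_assoc, hwT, R.x_zero, one_mul]⟩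
    · rw [show w 1 * (x v * T t * w 1 * x r) = w 1 * x v * (T t * w 1) * x r by group,
        show T t * w 1 = w 1 * T t⁻¹ by rw [hwT, inv_inv]]
      rcases eq_or_ne v 0 with rfl | hv
      · rw [R.x_zero, mul_one, ← mul_assoc (w 1), hw2, ← map_mul, hxT]
        exact Or.inl ⟨_, _, rfl⟩
      · obtain ⟨v, rfl⟩ : ∃ v' : Kˣ, v = v' := ⟨Units.mk0 v hv, rfl⟩
        have hwx : w 1 * x (v : K) = y ((-v : Kˣ) : K) * w 1 := by
          refine mul_inv_eq_iff_eq_mul.1 ?_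
          rw [R.w_conj 1 v one_ne_zero]; simp
        refine Or.inr ⟨((-v : Kˣ) : K)⁻¹, -(-v)⁻¹ * -1 * t,
          ((((-1 : Kˣ) * t⁻¹)⁻¹ : Kˣ) : K) ^ 2 * ((-v : Kˣ) : K)⁻¹ + r, ?_⟩
        rw [hwx, eqy]
        set a := ((-v : Kˣ) : K)⁻¹
        calc x a * T (-(-v)⁻¹) * w 1 * x a * w 1 * (w 1 * T t⁻¹) * x r
            = x a * T (-(-v)⁻¹) * w 1 * (x a * ((w 1 * w 1) * T t⁻¹)) * x r := by group
          _ = x a * T (-(-v)⁻¹) * (w 1 * T (-1 * t⁻¹)) *
              (x (((((-1 : Kˣ) * t⁻¹)⁻¹ : Kˣ) : K) ^ 2 * a) * x r) := by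
            rw [hw2, ← map_mul, show x a * T (-1 * t⁻¹) = _ from hTx a _]; group
          _ = _ := by
            rw [hwT, R.x_add, show T (-(-v)⁻¹ * -1 * t) = T (-(-v)⁻¹) * T ((-1 * t⁻¹)⁻¹) by
              rw [← map_mul]; congr 1; simp [mul_assoc]]
            group
  have hall : ∀ g, g ∈ S := by
    intro g
    have hg : g ∈ Subgroup.closure (Set.range x ∪ Set.range y) := by rw [hgen]; trivial
    have hy' : ∀ s, ∀ g ∈ S, y s * g ∈ S := by
      intro s g hg
      rcases eq_or_ne s 0 with rfl | hs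
      · rwa [R.y_zero, one_mul]
      · rw [← Units.val_mk0 hs, eqy, show ∀ a b c d : G, a * b * c * d * g = a * (b * (c * (d * g))) by intros; group]
        exact hSx _ _ (hST _ _ (hSw _ (hSx _ _ hg)))
    induction hg using Subgroup.closure_induction_left with
    | one => exact Or.inl ⟨0, 1, by rw [R.x_zero, map_one, one_mul]⟩
    | mul_left a ha g _ ih =>
      rcases ha with ⟨s, rfl⟩ | ⟨s, rfl⟩
      · exact hSx s g ih
      · exact hy' s g ih
    | inv_mul_cancel a ha g _ ih =>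
      rcases ha with ⟨s, rfl⟩ | ⟨s, rfl⟩
      · rw [R.x_inv]; exact hSx _ g ih
      · rw [R.y_inv]; exact hy' _ g ih
  intro g hg
  rw [MonoidHom.mem_ker] at hg
  rw [Subgroup.mem_bot]
  have hTm : ∀ t : Kˣ, (φ (T t) : Matrix (Fin 2) (Fin 2) K) = !![(t : K), 0; 0, (t : K)⁻¹] := fun t =>
    R.map_h φ hx hy t.ne_zero
  rcases hall g with ⟨u, t, rfl⟩ | ⟨v, t, r, rfl⟩
  · have e := congrArg (fun M : Matrix.SpecialLinearGroup (Fin 2) K => (M : Matrix (Fin 2) (Fin 2) K)) hg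
    simp only [map_mul, Matrix.SpecialLinearGroup.coe_mul, Matrix.SpecialLinearGroup.coe_one, hx, hTm] at e
    have e00 := congrFun (congrFun e 0) 0
    have e01 := congrFun (congrFun e 0) 1
    simp [Matrix.mul_apply, Fin.sum_univ_two] at e00 e01
    subst e00
    simp_all [R.x_zero]
  · have e := congrArg (fun M : Matrix.SpecialLinearGroup (Fin 2) K => (M : Matrix (Fin 2) (Fin 2) K)) hg
    simp only [map_mul, Matrix.SpecialLinearGroup.coe_mul, Matrix.SpecialLinearGroup.coe_one, hx, hTm,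
      R.map_w φ hx hy one_ne_zero] at e
    have e10 := congrFun (congrFun e 1) 0
    simp [Matrix.mul_apply, Fin.sum_univ_two] at e10

end Cfsg.Agent.Chevalley.SL2Hom

namespace Cfsg.Agent.Chevalley.SL2Hom

open Cfsg.Agent.H54.Presentation Cfsg.Agent.H87 Matrix

variable {K : Type*} [Field K] {G : Type*} [Group G]

theorem coe_up (t : K) :
    ((upMat t : Matrix.SpecialLinearGroup (Fin 2) K) : Matrix (Fin 2) (Fin 2) K) = !![1, t; 0, 1] := rfl

theorem coe_low (t : K) :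
    ((lowMat t : Matrix.SpecialLinearGroup (Fin 2) K) : Matrix (Fin 2) (Fin 2) K) = !![1, 0; t, 1] := rfl

theorem wEl_sl2 {t : K} (ht : t ≠ 0) :
    ((wEl (upMat (k := K)) lowMat t : Matrix.SpecialLinearGroup (Fin 2) K) : Matrix (Fin 2) (Fin 2) K) =
      !![0, t; -t⁻¹, 0] := by
  simp [wEl, Matrix.SpecialLinearGroup.coe_mul, coe_up, coe_low, Matrix.mul_fin_two, ht]

theorem sl2Rels : SL2Rels (upMat (k := K)) lowMat where
  x_add := upMat_mul
  y_add := lowMat_mul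
  w_conj t u ht := by
    rw [mul_inv_eq_iff_eq_mul]
    apply Matrix.SpecialLinearGroup.ext
    simp [wEl, Matrix.SpecialLinearGroup.coe_mul, coe_up, coe_low, Matrix.mul_fin_two, ht, Fin.forall_fin_two]
    field_simp

theorem hEl_sl2_mul (t u : Kˣ) :
    SL2Rels.hEl (upMat (k := K)) lowMat t * SL2Rels.hEl (upMat (k := K)) lowMat u =
      SL2Rels.hEl (upMat (k := K)) lowMat ((t * u : Kˣ) : K) := by
  apply Matrix.SpecialLinearGroup.ext
  simp [SL2Rels.hEl, wEl, Matrix.SpecialLinearGroup.coe_mul, coe_up, coe_low, Matrix.mul_fin_two, mul_comm, Fin.forall_fin_two]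
  field_simp
  norm_num

theorem closure_upMat_lowMat :
    Subgroup.closure (Set.range (upMat (k := K)) ∪ Set.range lowMat) = ⊤ := by
  refine eq_top_iff.2 ?_
  rw [← lower_sup_upper]
  refine sup_le (fun g hg => ?_) fun g hg => ?_
  · obtain ⟨t, rfl⟩ := mem_lower_iff.1 hg
    exact Subgroup.subset_closure (Or.inr ⟨t, rfl⟩)
  · obtain ⟨t, rfl⟩ := mem_upper_iff.1 hg
    exact Subgroup.subset_closure (Or.inl ⟨t, rfl⟩)

/-- A homomorphism from `SL₂` from the rank one relations. -/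
theorem exists_hom {x y : K → G} (R : SL2Rels x y)
    (hmul : ∀ t u : Kˣ, SL2Rels.hEl x y t * SL2Rels.hEl x y u = SL2Rels.hEl x y ((t * u : Kˣ) : K)) :
    ∃ ψ : Matrix.SpecialLinearGroup (Fin 2) K →* G, (∀ t, ψ (upMat t) = x t) ∧ (∀ t, ψ (lowMat t) = y t) ∧
      ψ.range = Subgroup.closure (Set.range x ∪ Set.range y) := by
  set Γ : Subgroup (Matrix.SpecialLinearGroup (Fin 2) K × G) :=
    Subgroup.closure (Set.range (fun t => (upMat t, x t)) ∪ Set.range (fun t => (lowMat t, y t)))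
  set x' : K → Γ := fun t => ⟨(upMat t, x t), Subgroup.subset_closure (Or.inl ⟨t, rfl⟩)⟩
  set y' : K → Γ := fun t => ⟨(lowMat t, y t), Subgroup.subset_closure (Or.inr ⟨t, rfl⟩)⟩
  have hw : ∀ t, ((wEl x' y' t : Γ) : Matrix.SpecialLinearGroup (Fin 2) K × G) =
      (wEl upMat lowMat t, wEl x y t) := fun t => rfl
  have R' : SL2Rels x' y' :=
    { x_add := fun t u => Subtype.ext (Prod.ext (upMat_mul t u) (R.x_add t u))
      y_add := fun t u => Subtype.ext (Prod.ext (lowMat_mul t u) (R.y_add t u))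
      w_conj := fun t u ht => Subtype.ext (Prod.ext (sl2Rels.w_conj t u ht) (R.w_conj t u ht)) }
  have hgen : Subgroup.closure (Set.range x' ∪ Set.range y') = ⊤ := by
    refine eq_top_iff.2 fun g _ => ?_
    have hle : Γ ≤ (Subgroup.closure (Set.range x' ∪ Set.range y')).map Γ.subtype := by
      refine (Subgroup.closure_le _).2 ?_
      rintro z (⟨t, rfl⟩ | ⟨t, rfl⟩)
      · exact ⟨x' t, Subgroup.subset_closure (Or.inl ⟨t, rfl⟩), rfl⟩
      · exact ⟨y' t, Subgroup.subset_closure (Or.inr ⟨t, rfl⟩), rfl⟩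
    obtain ⟨z, hz, e⟩ := hle g.2
    rwa [← Subtype.ext (a1 := z) (a2 := g) e]
  let φ : Γ →* Matrix.SpecialLinearGroup (Fin 2) K := (MonoidHom.fst _ G).comp Γ.subtype
  have hinj : Function.Injective φ :=
    injective_of_mul R' φ (fun t => rfl) (fun t => rfl) hgen
      fun t u => Subtype.ext (Prod.ext (hEl_sl2_mul t u) (hmul t u))
  have hsurj : Function.Surjective φ := by
    rw [← MonoidHom.range_eq_top, eq_top_iff, ← closure_upMat_lowMat, Subgroup.closure_le]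
    rintro z (⟨t, rfl⟩ | ⟨t, rfl⟩)
    · exact ⟨x' t, rfl⟩
    · exact ⟨y' t, rfl⟩
  let e : Γ ≃* Matrix.SpecialLinearGroup (Fin 2) K := MulEquiv.ofBijective φ ⟨hinj, hsurj⟩
  let ψ : Matrix.SpecialLinearGroup (Fin 2) K →* G :=
    ((MonoidHom.snd _ G).comp Γ.subtype).comp e.symm.toMonoidHom
  have h1 : ∀ t, ψ (upMat t) = x t := fun t => by
    show ((e.symm (upMat t) : Γ) : Matrix.SpecialLinearGroup (Fin 2) K × G).2 = x t
    rw [show e.symm (upMat t) = x' t from e.symm_apply_eq.2 rfl]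
  have h2 : ∀ t, ψ (lowMat t) = y t := fun t => by
    show ((e.symm (lowMat t) : Γ) : Matrix.SpecialLinearGroup (Fin 2) K × G).2 = y t
    rw [show e.symm (lowMat t) = y' t from e.symm_apply_eq.2 rfl]
  refine ⟨ψ, h1, h2, ?_⟩
  rw [MonoidHom.range_eq_map, ← closure_upMat_lowMat, MonoidHom.map_closure, Set.image_union,
    ← Set.range_comp, ← Set.range_comp]
  simp only [Function.comp_def, h1, h2]

end Cfsg.Agent.Chevalley.SL2Hom
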