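/-
The homomorphism from `SL₂` onto the subgroup generated by a pair of opposite root subgroups.
-/
import Cfsg.Agent.Chevalley.Torus
import Cfsg.Agent.Chevalley.Mono
import Cfsg.Agent.Chevalley.SL2Hom

set_option autoImplicit false

namespace Cfsg.Agent.Chevalley

open Cfsg.Lie Cfsg.Agent.H54.Presentation

namespace Cert

variable {D : ChevalleyDatum} (C : Cert D) (F : Type*) [Field F]
include C

theorem cartan_neg_root {i r : ℕ} (hi : i < D.rank) (hr : r < D.nroots) :
    D.cartan i (D.neg r) = -D.cartan i r := by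
  rw [C.cartan_lin i hi _ (C.neg_lt hr), C.cartan_lin i hi r hr]
  have key : ∀ L : List ℕ, (∀ j ∈ L, j < D.rank) →
      (L.map fun j => C.cf (D.neg r) j * D.cartan i (D.simple j)).sum =
        -(L.map fun j => C.cf r j * D.cartan i (D.simple j)).sum := by
    intro L hL
    induction L with
    | nil => simp
    | cons a L ih =>
      rw [List.map_cons, List.map_cons, List.sum_cons, List.sum_cons,
        ih (fun j hj => hL j (List.mem_cons_of_mem a hj)), C.cf_neg r hr a (hL a (List.mem_cons_self ..))]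
      ring
  exact key _ fun j hj => List.mem_range.1 hj

/-- `n_r(t) x_r(u) n_r(t)⁻¹ = x_{-r}(-t⁻² u)` -/
theorem nU_conj_self : ∀ r < D.nroots, ∀ t : Fˣ, ∀ u : F,
    C.nU F r t * C.xU F r u * (C.nU F r t)⁻¹ = C.xU F (D.neg r) (-((t : F)⁻¹ ^ 2 * u)) := by
  refine C.root_induction (P := fun r => ∀ t : Fˣ, ∀ u : F,
    C.nU F r t * C.xU F r u * (C.nU F r t)⁻¹ = C.xU F (D.neg r) (-((t : F)⁻¹ ^ 2 * u))) ?_ ?_
  · intro i hi t u
    have hs := (C.simple_lt i hi).1
    have e : C.nU F (D.simple i) t = C.hU F (D.simple i) t * C.nS F i := by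
      rw [C.hU_eq, mul_assoc, nS, ← C.nU_inv F _ (1 : F), inv_mul_cancel, mul_one]
    rw [e, mul_inv_rev, show C.hU F (D.simple i) t * C.nS F i * C.xU F (D.simple i) u *
        ((C.nS F i)⁻¹ * (C.hU F (D.simple i) t)⁻¹) = C.hU F (D.simple i) t *
          (C.nS F i * C.xU F (D.simple i) u * (C.nS F i)⁻¹) * (C.hU F (D.simple i) t)⁻¹ by group,
      C.nS_conj_xU F hi hs, C.w_simple hi, C.hU_conj_xU F hs (C.neg_lt hs), C.sg_simple i hi,
      C.pairing_simple hi, C.cartan_neg_root hi hs, C.cartan_self i hi]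
    congr 1
    have : ((t ^ (-2 : ℤ) : Fˣ) : F) = (t : F)⁻¹ ^ 2 := by
      rw [Units.val_zpow_eq_zpow_val, zpow_neg, inv_pow]
      norm_cast
    rw [this]
    push_cast
    ring
  · intro i hi r hr ih t u
    have hn := C.neg_lt hr
    rcases C.sg_pm i r with h | h
    · have hneg : C.sg i (D.neg r) = 1 := by rw [C.sg_neg hi hr, h]
      have e := congrArg (fun g => C.nS F i * g * (C.nS F i)⁻¹) (ih t u)
      rw [C.nS_conj_xU F hi hn, show C.nS F i * (C.nU F r t * C.xU F r u * (C.nU F r t)⁻¹) * (C.nS F i)⁻¹ =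
          (C.nS F i * C.nU F r t * (C.nS F i)⁻¹) * (C.nS F i * C.xU F r u * (C.nS F i)⁻¹) *
            (C.nS F i * C.nU F r t * (C.nS F i)⁻¹)⁻¹ by group,
        C.nS_conj_nU F hi hr, C.nS_conj_xU F hi hr, C.w_neg hi hr, hneg, h] at e
      simpa using e
    · have hneg : C.sg i (D.neg r) = -1 := by rw [C.sg_neg hi hr, h]
      have e := congrArg (fun g => C.nS F i * g * (C.nS F i)⁻¹) (ih (-t) (-u))
      rw [C.nS_conj_xU F hi hn, show C.nS F i * (C.nU F r ((-t : Fˣ) : F) * C.xU F r (-u) * (C.nU F r ((-t : Fˣ) : F))⁻¹) * (C.nS F i)⁻¹ =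
          (C.nS F i * C.nU F r ((-t : Fˣ) : F) * (C.nS F i)⁻¹) * (C.nS F i * C.xU F r (-u) * (C.nS F i)⁻¹) *
            (C.nS F i * C.nU F r ((-t : Fˣ) : F) * (C.nS F i)⁻¹)⁻¹ by group,
        C.nS_conj_nU F hi hr, C.nS_conj_xU F hi hr, C.w_neg hi hr, hneg, h] at e
      simpa [inv_neg] using e

theorem exists_sl2Hom {r : ℕ} (hr : r < D.nroots) :
    ∃ φ : Matrix.SpecialLinearGroup (Fin 2) F →* GL D.Idx F,
      φ.range = D.rootSubgroup F r ⊔ D.rootSubgroup F (D.neg r) ∧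
      ∀ (g : Matrix.SpecialLinearGroup (Fin 2) F) (t : F),
        ((g : Matrix (Fin 2) (Fin 2) F) = !![1, t; 0, 1] →
          ((φ g : GL D.Idx F) : Matrix D.Idx D.Idx F) = D.x F r t) ∧
        ((g : Matrix (Fin 2) (Fin 2) F) = !![1, 0; t, 1] →
          ((φ g : GL D.Idx F) : Matrix D.Idx D.Idx F) = D.x F (D.neg r) t) := by
  have hw : ∀ t, wEl (C.xU F r) (C.xU F (D.neg r)) t = C.nU F r t := fun t => (C.nU_eq F r t).symm
  have R : SL2Rels (C.xU F r) (C.xU F (D.neg r)) :=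
    { x_add := C.xU_add F r
      y_add := C.xU_add F (D.neg r)
      w_conj := fun t u ht => by rw [hw]; exact C.nU_conj_self F r hr (Units.mk0 t ht) u }
  have hh : ∀ t, SL2Rels.hEl (C.xU F r) (C.xU F (D.neg r)) t = C.hU F r t := fun t => by
    rw [SL2Rels.hEl, hw, hw, C.hU_eq]
  obtain ⟨ψ, h1, h2, h3⟩ := SL2Hom.exists_hom R fun t u => by
    rw [hh, hh, hh, C.hU_mul F hr]
  refine ⟨ψ, ?_, fun g t => ⟨fun hg => ?_, fun hg => ?_⟩⟩
  · have hroot : ∀ s, D.rootSubgroup F s = Subgroup.closure (Set.range (C.xU F s)) := fun s =>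
      le_antisymm (fun g hg => by
          obtain ⟨u, rfl⟩ := (C.mem_rootSubgroup F).1 hg
          exact Subgroup.subset_closure ⟨u, rfl⟩)
        ((Subgroup.closure_le _).2 (by rintro _ ⟨u, rfl⟩; exact (C.mem_rootSubgroup F).2 ⟨u, rfl⟩))
    rw [h3, Subgroup.closure_union, hroot r, hroot (D.neg r)]
  · rw [show g = Cfsg.Agent.H87.upMat t from Subtype.ext hg, h1, C.coe_xU]
  · rw [show g = Cfsg.Agent.H87.lowMat t from Subtype.ext hg, h2, C.coe_xU]

end Cert

end Cfsg.Agent.Chevalley
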