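/-
The diagonal subgroup satisfies the hypotheses of the root-subgroup system construction.
-/
import Cfsg.Agent.Chevalley.Mono
import Cfsg.Agent.H37.RootSys.Inst

set_option autoImplicit false

namespace Cfsg.Agent.Chevalley

open Cfsg.Lie

/-- the facts about the diagonal subgroup used by `H37.RootSys` -/
theorem rootSysTorus {D : ChevalleyDatum} (C : Cert D) (F : Type*) [Field F] :
    H37.RootSys.Torus C F where
  off _ hg _ _ hab := C.diag_off F hg hab
  one _ hg i := C.diag_inl F hg i
  conj _ hg := C.diag_conj_xU F hg

end Cfsg.Agent.Chevalley
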